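import Mathlib
import Cfsg.Agent.H23.HN.MemV.Data

/-!
A derivation that a word fixes the first coset (generated data).
-/

set_option autoImplicit false
set_option maxRecDepth 100000
set_option linter.all false
set_option Elab.async false

namespace H23
namespace HN
namespace MemV

open H93.CosetI

noncomputable section

def st0 : List Step := [(10,[],[]),
(0,[],[]),
(0,[],[]),
(0,[],[]),
(0,[],[]),
(0,[],[]),
(11,[2,4,6,8,10],[2,4]),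
(0,[],[]),
(0,[],[]),
(0,[],[]),
(0,[],[]),
(2,[2,14,16,18,20],[]),
(0,[],[]),
(0,[],[]),
(0,[],[]),
(0,[],[]),
(3,[23,24,26,28,30],[1,23,24,26,28,30]),
(0,[],[]),
(0,[],[]),
(0,[],[]),
(0,[],[]),
(0,[],[]),
(0,[],[]),
(0,[],[]),
(5,[23,24,34,36,38,40,42,44,46],[1,2,4,6,8,10]),
(0,[],[]),
(0,[],[]),
(0,[],[]),
(0,[],[]),
(0,[],[]),
(0,[],[]),
(0,[],[]),
(0,[],[]),
(0,[],[]),
(0,[],[]),
(0,[],[]),
(0,[],[]),
(0,[],[]),
(0,[],[]),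
(4,[1,2,14,50,52,54,56,58,60,62,64,66,68,70,72,74,76],[23,21,19]),
(3,[3,1,2,4,13,49,47,45],[4,13,49,47]),
(1,[81],[]),
(1,[83,45],[]),
(1,[83,46],[]),
(0,[],[]),
(0,[],[]),
(0,[],[]),
(0,[],[]),
(0,[],[]),
(0,[],[]),
(0,[],[]),
(0,[],[]),
(0,[],[]),
(0,[],[]),
(0,[],[]),
(0,[],[]),
(0,[],[]),
(0,[],[]),
(0,[],[]),
(4,[4,6,88,90,92,94,96,98,100,102,104,106,108,110,112,114,116],[3,23,21]),
(0,[],[]),
(0,[],[]),
(0,[],[]),
(0,[],[]),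
(0,[],[]),
(0,[],[]),
(0,[],[]),
(0,[],[]),
(0,[],[]),
(0,[],[]),
(0,[],[]),
(0,[],[]),
(0,[],[]),
(0,[],[]),
(7,[4,13,11,120,122,124,126,128,130,132,134,136,138,140,142,144,146],[14,16,79]),
(2,[6,88],[13,11,120]),
(0,[],[]),
(0,[],[]),
(0,[],[]),
(0,[],[]),
(0,[],[]),
(0,[],[]),
(0,[],[]),
(0,[],[]),
(0,[],[]),
(5,[13,49,152,154,156,158,160,162,164,166,168],[5,14,50,52]),
(0,[],[]),
(0,[],[]),
(0,[],[]),
(0,[],[]),
(3,[7,5,14,50,172,174,176,178],[8,120,122]),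
(0,[],[]),
(0,[],[]),
(0,[],[]),
(0,[],[]),
(4,[8,10,12,5,14,16,18,119,182,184,186,188],[7,13,11,9,7,13,49,152]),
(0,[],[]),
(0,[],[]),
(0,[],[]),
(0,[],[]),
(0,[],[]),
(0,[],[]),
(0,[],[]),
(0,[],[]),
(7,[8,120,151,89,8,120,151,90,192,194,196,198,200,202,204,206],[88,150,122,181]),
(0,[],[]),
(0,[],[]),
(0,[],[]),
(0,[],[]),
(0,[],[]),
(0,[],[]),
(0,[],[]),
(0,[],[]),
(5,[120,122,124,210,212,214,216,218,220,222,224],[9,88,90,92]),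
(0,[],[]),
(0,[],[]),
(0,[],[]),
(3,[11,9,88,90,192,228,230,232],[49,152,154]),
(0,[],[]),
(0,[],[]),
(0,[],[]),
(0,[],[]),
(0,[],[]),
(0,[],[]),
(0,[],[]),
(0,[],[]),
(0,[],[]),
(4,[49,87,43,41,39,236,238,240,242,244,246,248,250,252],[11,120,151,90,192,194]),
(0,[],[]),
(0,[],[]),
(0,[],[]),
(0,[],[]),
(0,[],[]),
(0,[],[]),
(0,[],[]),
(0,[],[]),
(0,[],[]),
(0,[],[]),
(0,[],[]),
(0,[],[]),
(4,[50,52,54,256,258,260,262,264,266,268,270,272,274,276,278],[15,3,23,24,34]),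
(0,[],[]),
(0,[],[]),
(0,[],[]),
(0,[],[]),
(0,[],[]),
(0,[],[]),
(0,[],[]),
(0,[],[]),
(0,[],[]),
(0,[],[]),
(0,[],[]),
(0,[],[]),
(0,[],[]),
(7,[50,172,282,284,286,288,290,292,294,296,298,300,302,304,306],[16,18,119,182,184]),
(0,[],[]),
(0,[],[]),
(0,[],[]),
(0,[],[]),
(0,[],[]),
(3,[17,50,52,171,310,312,314,316,318],[79,77]),
(0,[],[]),
(0,[],[]),
(0,[],[]),
(0,[],[]),
(0,[],[]),
(0,[],[]),
(0,[],[]),
(0,[],[]),
(0,[],[]),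
(5,[17,50,172,174,322,324,326,328,330,332,334,336,338],[79,149]),
(0,[],[]),
(0,[],[]),
(0,[],[]),
(0,[],[]),
(0,[],[]),
(0,[],[]),
(0,[],[]),
(0,[],[]),
(4,[79,149,147,342,344,346,348,350,352,354,356],[17,15,3,1,23,21,119,117,115]),
(0,[],[]),
(0,[],[]),
(0,[],[]),
(0,[],[]),
(0,[],[]),
(0,[],[]),
(0,[],[]),
(0,[],[]),
(0,[],[]),
(0,[],[]),
(0,[],[]),
(0,[],[]),
(0,[],[]),
(7,[79,77,75,360,362,364,366,368,370,372,374,376,378,380,382,384],[18,20,24,26]),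
(0,[],[]),
(0,[],[]),
(0,[],[]),
(0,[],[]),
(0,[],[]),
(3,[19,79,149,341,388,390,392,394,396],[119,117]),
(0,[],[]),
(0,[],[]),
(0,[],[]),
(0,[],[]),
(0,[],[]),
(0,[],[]),
(0,[],[]),
(0,[],[]),
(0,[],[]),
(5,[19,79,77,321,400,402,404,406,408,410,412,414,416],[119,182]),
(0,[],[]),
(0,[],[]),
(0,[],[]),
(3,[21,119,182,419,420,422,424],[24,34,36,236]),
(0,[],[]),
(0,[],[]),
(0,[],[]),
(0,[],[]),
(0,[],[]),
(0,[],[]),
(0,[],[]),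
(0,[],[]),
(5,[21,119,117,399,428,430,432,434,436,438,440,442],[24,26,28]),
(0,[],[]),
(0,[],[]),
(0,[],[]),
(0,[],[]),
(0,[],[]),
(0,[],[]),
(0,[],[]),
(0,[],[]),
(0,[],[]),
(0,[],[]),
(0,[],[]),
(4,[24,26,387,446,448,450,452,454,456,458,460,462,464,466],[21,19,17,50,172,282]),
(0,[],[]),
(0,[],[]),
(0,[],[]),
(0,[],[]),
(0,[],[]),
(0,[],[]),
(0,[],[]),
(0,[],[]),
(7,[24,34,281,470,472,474,476,478,480,482,484],[22,2,4,6,88,150,122,181,209]),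
(2,[26,387,385],[34,281,470]),
(1,[489],[]),
(1,[491,472],[]),
(1,[382,492],[]),
(1,[491,471],[]),
(1,[495],[])]
theorem ok0 : data.stepsOK st0 0 = true := by decide +kernel
def st1 : List Step := [(1,[499,474],[]),
(0,[],[]),
(0,[],[]),
(0,[],[]),
(0,[],[]),
(0,[],[]),
(0,[],[]),
(0,[],[]),
(0,[],[]),
(0,[],[]),
(0,[],[]),
(0,[],[]),
(0,[],[]),
(4,[28,445,502,504,506,508,510,512,514,516,518,520,522,524],[27,34,281,279,277,275]),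
(0,[],[]),
(0,[],[]),
(0,[],[]),
(0,[],[]),
(0,[],[]),
(0,[],[]),
(0,[],[]),
(0,[],[]),
(0,[],[]),
(0,[],[]),
(0,[],[]),
(0,[],[]),
(0,[],[]),
(7,[28,30,528,530,532,534,536,538,540,542,544,546,548,550,552],[387,385,383,381,379]),
(2,[445,502],[30,528,530]),
(0,[],[]),
(0,[],[]),
(0,[],[]),
(0,[],[]),
(0,[],[]),
(0,[],[]),
(0,[],[]),
(0,[],[]),
(5,[30,33,528,558,560,562,564,566,568,570,572],[29,387,446,448]),
(0,[],[]),
(0,[],[]),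
(0,[],[]),
(3,[528,558,576,578,580],[33,528,558,576,578,580]),
(0,[],[]),
(0,[],[]),
(0,[],[]),
(0,[],[]),
(0,[],[]),
(0,[],[]),
(0,[],[]),
(0,[],[]),
(0,[],[]),
(0,[],[]),
(0,[],[]),
(4,[33,31,445,443,441,584,586,588,590,592,594,596,598,600,602,604],[528,530,557,504]),
(0,[],[]),
(0,[],[]),
(0,[],[]),
(0,[],[]),
(0,[],[]),
(0,[],[]),
(3,[281,279,608,610,612,614,616,618],[36,38,40]),
(0,[],[]),
(0,[],[]),
(0,[],[]),
(0,[],[]),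
(0,[],[]),
(0,[],[]),
(0,[],[]),
(0,[],[]),
(0,[],[]),
(5,[281,279,277,622,624,626,628,630,632,634,636,638],[36,236,427]),
(0,[],[]),
(0,[],[]),
(0,[],[]),
(0,[],[]),
(0,[],[]),
(0,[],[]),
(0,[],[]),
(0,[],[]),
(0,[],[]),
(0,[],[]),
(4,[36,236,238,240,242,244,642,644,646,648,650,652,654,656,658,660],[281,497,384,446]),
(0,[],[]),
(0,[],[]),
(0,[],[]),
(0,[],[]),
(0,[],[]),
(0,[],[]),
(0,[],[]),
(0,[],[]),
(0,[],[]),
(0,[],[]),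
(0,[],[]),
(7,[36,38,664,666,668,670,672,674,676,678,680,682,684],[35,26,28,445,502,556,532]),
(2,[236,238],[38,664,666]),
(0,[],[]),
(0,[],[]),
(0,[],[]),
(0,[],[]),
(0,[],[]),
(0,[],[]),
(0,[],[]),
(0,[],[]),
(0,[],[]),
(0,[],[]),
(0,[],[]),
(0,[],[]),
(0,[],[]),
(0,[],[]),
(0,[],[]),
(0,[],[]),
(4,[40,621,694,696,698,700,702,704,706,708,710,712,714,716,718,720],[664,666,689,240]),
(0,[],[]),
(0,[],[]),
(0,[],[]),
(0,[],[]),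
(0,[],[]),
(0,[],[]),
(0,[],[]),
(0,[],[]),
(0,[],[]),
(0,[],[]),
(7,[40,42,86,152,154,156,724,726,728,730,732,734,736,738,740,742],[39,236,427,641]),
(2,[621,694],[42,86,152,191]),
(1,[746],[]),
(1,[749,696],[]),
(1,[749,695],[]),
(1,[188,752],[]),
(1,[755],[]),
(1,[757,619],[]),
(1,[186,758],[]),
(1,[757,620],[]),
(1,[761],[]),
(1,[765,617],[]),
(1,[184,766],[]),
(1,[769],[]),
(1,[771,615],[]),
(1,[418,772],[]),
(1,[775],[]),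
(1,[777,613],[]),
(1,[416,778],[]),
(1,[781],[]),
(1,[783,611],[]),
(1,[414,784],[]),
(1,[787],[]),
(1,[789,609],[]),
(9,[763,187,309,307,305,303],[42,86,48,11,9,7,13,11,9,7,5,3,23,21,119,117,399,428]),
(1,[793],[]),
(1,[795,430],[]),
(1,[300,796],[]),
(1,[795,429],[]),
(1,[799],[]),
(1,[803,432],[]),
(0,[],[]),
(0,[],[]),
(0,[],[]),
(0,[],[]),
(0,[],[]),
(0,[],[]),
(0,[],[]),
(0,[],[]),
(0,[],[]),
(0,[],[]),
(0,[],[]),
(4,[85,43,763,187,309,806,808,810,812,814,816,818,820,822,824,826],[86,152,191,750]),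
(2,[52,54,56],[172,282,284]),
(1,[831],[]),
(1,[833,286],[]),
(1,[59,834],[]),
(1,[833,285],[]),
(1,[837],[]),
(1,[841,288],[]),
(0,[],[]),
(0,[],[]),
(0,[],[]),
(0,[],[]),
(0,[],[]),
(0,[],[]),
(0,[],[]),
(0,[],[]),
(0,[],[]),
(0,[],[]),
(0,[],[]),
(0,[],[]),
(0,[],[]),
(0,[],[]),
(7,[171,310,846,848,850,852,854,856,858,860,862,864,866,868,870],[54,56,58,60,62]),
(0,[],[]),
(0,[],[]),
(0,[],[]),
(0,[],[]),
(0,[],[]),
(0,[],[]),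
(3,[55,171,169,167,874,876,878,880,882,884],[256]),
(0,[],[]),
(0,[],[]),
(0,[],[]),
(0,[],[]),
(0,[],[]),
(0,[],[]),
(0,[],[]),
(0,[],[]),
(0,[],[]),
(5,[55,171,310,312,888,890,892,894,896,898,900,902,904],[256,258]),
(0,[],[]),
(0,[],[]),
(0,[],[]),
(0,[],[]),
(0,[],[]),
(0,[],[]),
(0,[],[]),
(0,[],[]),
(0,[],[]),
(0,[],[]),
(0,[],[]),
(0,[],[]),
(4,[256,258,260,908,910,912,914,916,918,920,922,924,926,928,930],[55,53,172,174,322]),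
(0,[],[]),
(0,[],[]),
(0,[],[]),
(0,[],[]),
(0,[],[]),
(0,[],[]),
(0,[],[]),
(0,[],[]),
(0,[],[]),
(0,[],[]),
(0,[],[]),
(0,[],[]),
(0,[],[]),
(0,[],[]),
(0,[],[]),
(7,[256,887,934,936,938,940,942,944,946,948,950,952,954,956,958,960,962],[56,838,469]),
(0,[],[]),
(0,[],[]),
(0,[],[]),
(0,[],[]),
(0,[],[]),
(3,[57,256,258,907,966,968,970,972,974],[58,842]),
(0,[],[]),
(0,[],[]),
(0,[],[]),
(0,[],[]),
(0,[],[]),
(0,[],[]),
(0,[],[]),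
(0,[],[]),
(0,[],[]),
(5,[57,256,887,885,978,980,982,984,986,988,990,992,994],[58,60]),
(0,[],[])]
theorem ok1 : data.stepsOK st1 250 = true := by decide +kernel
def st2 : List Step := [(0,[],[]),
(0,[],[]),
(0,[],[]),
(0,[],[]),
(0,[],[]),
(0,[],[]),
(0,[],[]),
(0,[],[]),
(0,[],[]),
(0,[],[]),
(0,[],[]),
(0,[],[]),
(7,[58,842,290,998,1000,1002,1004,1006,1008,1010,1012,1014,1016,1018,1020,1022],[838,283,174,176]),
(2,[60,62,873],[842,290,998]),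
(1,[1027],[]),
(1,[1029,1000],[]),
(1,[870,1030],[]),
(1,[1029,999],[]),
(1,[1033],[]),
(1,[1037,1002],[]),
(0,[],[]),
(0,[],[]),
(0,[],[]),
(0,[],[]),
(0,[],[]),
(0,[],[]),
(0,[],[]),
(0,[],[]),
(0,[],[]),
(5,[842,977,1040,1042,1044,1046,1048,1050,1052,1054,1056],[59,838,469,965]),
(0,[],[]),
(0,[],[]),
(0,[],[]),
(0,[],[]),
(0,[],[]),
(3,[61,59,838,469,467,1060,1062,1064,1066,1068],[997]),
(0,[],[]),
(0,[],[]),
(0,[],[]),
(0,[],[]),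
(0,[],[]),
(0,[],[]),
(0,[],[]),
(0,[],[]),
(0,[],[]),
(0,[],[]),
(0,[],[]),
(0,[],[]),
(4,[997,995,1072,1074,1076,1078,1080,1082,1084,1086,1088,1090,1092,1094],[61,842,290,292,294,296]),
(0,[],[]),
(0,[],[]),
(0,[],[]),
(0,[],[]),
(0,[],[]),
(0,[],[]),
(0,[],[]),
(0,[],[]),
(0,[],[]),
(0,[],[]),
(0,[],[]),
(0,[],[]),
(0,[],[]),
(7,[997,1071,1098,1100,1102,1104,1106,1108,1110,1112,1114,1116,1118,1120,1122],[62,873,871,869,867]),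
(0,[],[]),
(0,[],[]),
(0,[],[]),
(0,[],[]),
(0,[],[]),
(0,[],[]),
(3,[63,997,995,993,1126,1128,1130,1132,1134,1136],[64]),
(0,[],[]),
(0,[],[]),
(0,[],[]),
(0,[],[]),
(0,[],[]),
(0,[],[]),
(0,[],[]),
(0,[],[]),
(0,[],[]),
(5,[63,997,1071,1069,1140,1142,1144,1146,1148,1150,1152,1154,1156],[64,66]),
(0,[],[]),
(0,[],[]),
(0,[],[]),
(0,[],[]),
(0,[],[]),
(0,[],[]),
(0,[],[]),
(0,[],[]),
(0,[],[]),
(0,[],[]),
(0,[],[]),
(0,[],[]),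
(4,[64,66,68,1160,1162,1164,1166,1168,1170,1172,1174,1176,1178,1180,1182],[63,61,842,977,1040]),
(0,[],[]),
(0,[],[]),
(0,[],[]),
(0,[],[]),
(0,[],[]),
(0,[],[]),
(0,[],[]),
(0,[],[]),
(0,[],[]),
(0,[],[]),
(0,[],[]),
(0,[],[]),
(0,[],[]),
(0,[],[]),
(0,[],[]),
(7,[64,1139,1186,1188,1190,1192,1194,1196,1198,1200,1202,1204,1206,1208,1210,1212,1214],[873,1034,292]),
(2,[66,68,70],[1139,1186,1188]),
(1,[1219],[]),
(1,[1221,1190],[]),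
(1,[73,1222],[]),
(1,[1221,1189],[]),
(1,[1225],[]),
(1,[1229,1192],[]),
(1,[361,1230],[]),
(1,[1233],[]),
(1,[1235,1194],[]),
(0,[],[]),
(0,[],[]),
(0,[],[]),
(0,[],[]),
(0,[],[]),
(0,[],[]),
(0,[],[]),
(0,[],[]),
(0,[],[]),
(5,[1139,1137,1238,1240,1242,1244,1246,1248,1250,1252,1254],[65,873,871,869]),
(0,[],[]),
(0,[],[]),
(0,[],[]),
(0,[],[]),
(0,[],[]),
(3,[67,65,873,871,1038,1258,1260,1262,1264,1266],[1159]),
(0,[],[]),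
(0,[],[]),
(0,[],[]),
(0,[],[]),
(0,[],[]),
(0,[],[]),
(0,[],[]),
(0,[],[]),
(0,[],[]),
(0,[],[]),
(0,[],[]),
(0,[],[]),
(0,[],[]),
(0,[],[]),
(0,[],[]),
(4,[1159,1157,1270,1272,1274,1276,1278,1280,1282,1284,1286,1288,1290,1292,1294,1296,1298],[67,1139,1186]),
(0,[],[]),
(0,[],[]),
(0,[],[]),
(0,[],[]),
(0,[],[]),
(0,[],[]),
(0,[],[]),
(0,[],[]),
(0,[],[]),
(0,[],[]),
(7,[1159,1269,1302,1304,1306,1308,1310,1312,1314,1316,1318,1320],[68,70,72,74,76,149,341,339]),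
(0,[],[]),
(0,[],[]),
(0,[],[]),
(0,[],[]),
(0,[],[]),
(0,[],[]),
(0,[],[]),
(0,[],[]),
(0,[],[]),
(5,[69,1159,1269,1267,1324,1326,1328,1330,1332,1334,1336,1338,1340],[1160,1162]),
(0,[],[]),
(0,[],[]),
(0,[],[]),
(0,[],[]),
(3,[71,1160,1162,1343,1344,1346,1348,1350],[72,360,362]),
(0,[],[]),
(0,[],[]),
(0,[],[]),
(0,[],[]),
(0,[],[]),
(0,[],[]),
(2,[74,76,149,147,145],[360]),
(1,[1367],[]),
(1,[1369,362],[]),
(1,[142,1370],[]),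
(1,[1369,361],[]),
(1,[1369,1236],[]),
(1,[145,1376],[]),
(1,[1373],[]),
(1,[1381,1353],[]),
(1,[140,1382],[]),
(1,[1381,364],[]),
(1,[1379],[]),
(1,[1389,1196],[]),
(1,[343,1390],[]),
(1,[1389,1354],[]),
(1,[147,1394],[]),
(1,[1385],[]),
(1,[1399,1351],[]),
(1,[1393],[]),
(1,[1403,1198],[]),
(1,[1397],[]),
(1,[1407,1356],[]),
(1,[340,1408],[]),
(1,[1411],[]),
(1,[1413,1358],[]),
(1,[389,1414],[]),
(1,[1417],[]),
(1,[1419,1360],[]),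
(0,[],[]),
(0,[],[]),
(0,[],[]),
(0,[],[]),
(0,[],[]),
(0,[],[]),
(0,[],[]),
(0,[],[]),
(0,[],[]),
(0,[],[]),
(0,[],[]),
(0,[],[]),
(0,[],[]),
(0,[],[]),
(0,[],[]),
(0,[],[]),
(7,[321,400,1428,1430,1432,1434,1436,1438,1440,1442,1444,1446,1448,1450,1452],[76,149,341,339,1323]),
(0,[],[]),
(0,[],[]),
(0,[],[]),
(0,[],[]),
(0,[],[]),
(0,[],[]),
(0,[],[]),
(0,[],[]),
(4,[90,92,94,1456,1458,1460,1462,1464,1466,1468,1470],[89,7,13,49,152,191,750,829,827]),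
(2,[92,94,96],[192,194,196]),
(1,[1475],[]),
(1,[1477,198],[]),
(1,[99,1478],[]),
(1,[1477,197],[]),
(1,[1481],[]),
(1,[1485,200],[]),
(0,[],[]),
(0,[],[]),
(0,[],[]),
(0,[],[]),
(0,[],[]),
(0,[],[])]
theorem ok2 : data.stepsOK st2 500 = true := by decide +kernel
def st3 : List Step := [(0,[],[]),
(5,[192,228,1488,1490,1492,1494,1496,1498,1500],[91,150,122,181,179,1025]),
(0,[],[]),
(0,[],[]),
(0,[],[]),
(0,[],[]),
(3,[93,91,150,122,124,210,1504,1506,1508,1510],[227]),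
(0,[],[]),
(0,[],[]),
(0,[],[]),
(0,[],[]),
(0,[],[]),
(0,[],[]),
(0,[],[]),
(0,[],[]),
(0,[],[]),
(0,[],[]),
(0,[],[]),
(0,[],[]),
(4,[227,225,1514,1516,1518,1520,1522,1524,1526,1528,1530,1532,1534,1536],[93,192,194,255,253,251]),
(0,[],[]),
(0,[],[]),
(0,[],[]),
(0,[],[]),
(0,[],[]),
(0,[],[]),
(0,[],[]),
(0,[],[]),
(0,[],[]),
(0,[],[]),
(0,[],[]),
(0,[],[]),
(0,[],[]),
(7,[227,1513,1540,1542,1544,1546,1548,1550,1552,1554,1556,1558,1560,1562,1564],[94,96,98,100,102]),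
(0,[],[]),
(0,[],[]),
(0,[],[]),
(0,[],[]),
(0,[],[]),
(0,[],[]),
(3,[95,227,225,223,1568,1570,1572,1574,1576,1578],[1456]),
(0,[],[]),
(0,[],[]),
(0,[],[]),
(0,[],[]),
(0,[],[]),
(0,[],[]),
(0,[],[]),
(0,[],[]),
(0,[],[]),
(5,[95,227,1513,1511,1582,1584,1586,1588,1590,1592,1594,1596,1598],[1456,1458]),
(0,[],[]),
(0,[],[]),
(0,[],[]),
(0,[],[]),
(0,[],[]),
(0,[],[]),
(0,[],[]),
(0,[],[]),
(0,[],[]),
(0,[],[]),
(0,[],[]),
(0,[],[]),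
(4,[1456,1458,1460,1602,1604,1606,1608,1610,1612,1614,1616,1618,1620,1622,1624],[95,93,192,228,1488]),
(0,[],[]),
(0,[],[]),
(0,[],[]),
(0,[],[]),
(0,[],[]),
(0,[],[]),
(0,[],[]),
(0,[],[]),
(0,[],[]),
(0,[],[]),
(0,[],[]),
(0,[],[]),
(0,[],[]),
(0,[],[]),
(0,[],[]),
(7,[1456,1581,1628,1630,1632,1634,1636,1638,1640,1642,1644,1646,1648,1650,1652,1654,1656],[96,1482,255]),
(0,[],[]),
(0,[],[]),
(0,[],[]),
(0,[],[]),
(0,[],[]),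
(3,[97,1456,1458,1601,1660,1662,1664,1666,1668],[98,1486]),
(0,[],[]),
(0,[],[]),
(0,[],[]),
(0,[],[]),
(0,[],[]),
(0,[],[]),
(0,[],[]),
(0,[],[]),
(0,[],[]),
(5,[97,1456,1581,1579,1672,1674,1676,1678,1680,1682,1684,1686,1688],[98,100]),
(0,[],[]),
(0,[],[]),
(0,[],[]),
(0,[],[]),
(0,[],[]),
(0,[],[]),
(0,[],[]),
(0,[],[]),
(0,[],[]),
(0,[],[]),
(0,[],[]),
(0,[],[]),
(0,[],[]),
(7,[98,1486,202,1692,1694,1696,1698,1700,1702,1704,1706,1708,1710,1712,1714,1716],[1482,195,228,230]),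
(2,[100,102,1567],[1486,202,1692]),
(1,[1721],[]),
(1,[1723,1694],[]),
(1,[1564,1724],[]),
(1,[1723,1693],[]),
(1,[1727],[]),
(1,[1731,1696],[]),
(0,[],[]),
(0,[],[]),
(0,[],[]),
(0,[],[]),
(0,[],[]),
(0,[],[]),
(0,[],[]),
(0,[],[]),
(0,[],[]),
(5,[1486,1671,1734,1736,1738,1740,1742,1744,1746,1748,1750],[99,1482,255,1659]),
(0,[],[]),
(0,[],[]),
(0,[],[]),
(0,[],[]),
(0,[],[]),
(3,[101,99,1482,255,253,1754,1756,1758,1760,1762],[1691]),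
(0,[],[]),
(0,[],[]),
(0,[],[]),
(0,[],[]),
(0,[],[]),
(0,[],[]),
(0,[],[]),
(0,[],[]),
(0,[],[]),
(0,[],[]),
(0,[],[]),
(0,[],[]),
(0,[],[]),
(0,[],[]),
(0,[],[]),
(7,[1691,1765,1770,1772,1774,1776,1778,1780,1782,1784,1786,1788,1790,1792,1794],[102,1567,1565,1563,1561]),
(0,[],[]),
(0,[],[]),
(0,[],[]),
(0,[],[]),
(0,[],[]),
(0,[],[]),
(3,[103,1691,1689,1687,1798,1800,1802,1804,1806,1808],[104]),
(0,[],[]),
(0,[],[]),
(0,[],[]),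
(0,[],[]),
(0,[],[]),
(0,[],[]),
(0,[],[]),
(0,[],[]),
(0,[],[]),
(5,[103,1691,1765,1763,1812,1814,1816,1818,1820,1822,1824,1826,1828],[104,106]),
(0,[],[]),
(0,[],[]),
(0,[],[]),
(0,[],[]),
(0,[],[]),
(0,[],[]),
(0,[],[]),
(0,[],[]),
(0,[],[]),
(0,[],[]),
(0,[],[]),
(0,[],[]),
(4,[104,106,108,1832,1834,1836,1838,1840,1842,1844,1846,1848,1850,1852,1854],[103,101,1486,1671,1734]),
(0,[],[]),
(0,[],[]),
(0,[],[]),
(0,[],[]),
(0,[],[]),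
(0,[],[]),
(0,[],[]),
(0,[],[]),
(0,[],[]),
(0,[],[]),
(0,[],[]),
(0,[],[]),
(0,[],[]),
(0,[],[]),
(0,[],[]),
(7,[104,1811,1858,1860,1862,1864,1866,1868,1870,1872,1874,1876,1878,1880,1882,1884,1886],[1567,1728,204]),
(2,[106,108,110],[1811,1858,1860]),
(1,[1891],[]),
(1,[1893,1862],[]),
(1,[113,1894],[]),
(1,[1893,1861],[]),
(1,[1897],[]),
(1,[1901,1864],[]),
(1,[358,1902],[]),
(1,[1905],[]),
(1,[1907,1866],[]),
(0,[],[]),
(0,[],[]),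
(0,[],[]),
(0,[],[]),
(0,[],[]),
(0,[],[]),
(0,[],[]),
(0,[],[]),
(0,[],[]),
(5,[1811,1809,1910,1912,1914,1916,1918,1920,1922,1924,1926],[105,1567,1565,1563]),
(0,[],[]),
(0,[],[]),
(0,[],[]),
(0,[],[]),
(0,[],[]),
(3,[107,105,1567,1565,1732,1930,1932,1934,1936,1938],[1831]),
(0,[],[]),
(0,[],[]),
(0,[],[]),
(0,[],[]),
(0,[],[]),
(0,[],[]),
(0,[],[]),
(0,[],[]),
(0,[],[]),
(0,[],[]),
(0,[],[]),
(0,[],[]),
(0,[],[]),
(0,[],[]),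
(0,[],[]),
(4,[1831,1829,1942,1944,1946,1948,1950,1952,1954,1956,1958,1960,1962,1964,1966,1968,1970],[107,1811,1858]),
(0,[],[]),
(0,[],[]),
(0,[],[]),
(0,[],[]),
(0,[],[]),
(0,[],[]),
(0,[],[]),
(0,[],[]),
(0,[],[]),
(0,[],[]),
(7,[1831,1941,1974,1976,1978,1980,1982,1984,1986,1988,1990,1992],[108,110,112,114,116,182,419,417]),
(0,[],[]),
(0,[],[])]
theorem ok3 : data.stepsOK st3 750 = true := by decide +kernel
def st4 : List Step := [(0,[],[]),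
(0,[],[]),
(0,[],[]),
(0,[],[]),
(3,[109,1831,1829,1827,1996,1998,2000,2002,2004,2006],[1832]),
(0,[],[]),
(0,[],[]),
(0,[],[]),
(0,[],[]),
(0,[],[]),
(0,[],[]),
(5,[111,1832,2009,2007,2010,2012,2014,2016,2018,2020],[112,114,399,397,395]),
(0,[],[]),
(0,[],[]),
(0,[],[]),
(0,[],[]),
(0,[],[]),
(0,[],[]),
(0,[],[]),
(2,[114,116,182,184,309,806],[]),
(1,[2038],[]),
(1,[2041,808],[]),
(1,[115,2042],[]),
(1,[2041,807],[]),
(1,[358,2046],[]),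
(1,[2045],[]),
(1,[2051,810],[]),
(1,[398,2052],[]),
(1,[2048],[]),
(1,[2057,357],[]),
(1,[306,2058],[]),
(1,[2057,358],[]),
(1,[2057,1908],[]),
(1,[309,2064],[]),
(1,[2055],[]),
(1,[2069,812],[]),
(1,[396,2070],[]),
(1,[2061],[]),
(1,[2075,355],[]),
(1,[2067],[]),
(1,[2079,1868],[]),
(1,[187,2080],[]),
(1,[2079,2024],[]),
(1,[184,2084],[]),
(1,[2073],[]),
(1,[2089,814],[]),
(1,[2083],[]),
(1,[2093,1870],[]),
(1,[763,2094],[]),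
(1,[2087],[]),
(1,[2099,2026],[]),
(1,[418,2100],[]),
(1,[2097],[]),
(1,[2105,1872],[]),
(1,[43,2106],[]),
(1,[2103],[]),
(1,[2111,2028],[]),
(1,[421,2112],[]),
(1,[2109],[]),
(1,[2117,1874],[]),
(1,[87,2118],[]),
(1,[2115],[]),
(1,[2123,2030],[]),
(1,[2121],[]),
(1,[2127,1876],[]),
(1,[49,2128],[]),
(1,[2131],[]),
(1,[2133,1878],[]),
(1,[10,2134],[]),
(1,[2137],[]),
(1,[2139,1880],[]),
(1,[121,2140],[]),
(1,[2143],[]),
(1,[2145,1882],[]),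
(1,[123,2146],[]),
(1,[2149],[]),
(1,[2151,1884],[]),
(1,[125,2152],[]),
(1,[2155],[]),
(1,[2157,1886],[]),
(1,[127,2158],[]),
(1,[2161],[]),
(1,[2163,1888],[]),
(0,[],[]),
(0,[],[]),
(3,[115,113,1898,1973,1971],[399,801,301,299,1097,1095]),
(0,[],[]),
(0,[],[]),
(0,[],[]),
(0,[],[]),
(0,[],[]),
(7,[399,801,302,304,306,308,185,419,420,2124,2172,2174,2176,2178,2180],[116,182,419,417,1995]),
(9,[121,9,88,90,92,94,96,98,100,1691,1689,1766],[151,89,8,120,122,124,126,2164,205,1729,1565,1732]),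
(1,[2184],[]),
(1,[2187,1768],[]),
(1,[1931,2188],[]),
(1,[2187,1767],[]),
(1,[1699,2192],[]),
(1,[2190],[]),
(1,[2197,1931],[]),
(1,[2194],[]),
(1,[2201,1700],[]),
(1,[1686,2202],[]),
(1,[2201,1699],[]),
(1,[2205],[]),
(1,[2209,1702],[]),
(1,[1799,2210],[]),
(1,[2212],[]),
(1,[2215,1799],[]),
(0,[],[]),
(0,[],[]),
(0,[],[]),
(0,[],[]),
(0,[],[]),
(0,[],[]),
(3,[126,128,2218,2220,2222,2224,2226,2228],[210,212,214]),
(0,[],[]),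
(0,[],[]),
(0,[],[]),
(0,[],[]),
(0,[],[]),
(0,[],[]),
(0,[],[]),
(0,[],[]),
(0,[],[]),
(0,[],[]),
(0,[],[]),
(0,[],[]),
(0,[],[]),
(0,[],[]),
(0,[],[]),
(0,[],[]),
(4,[210,1504,2236,2238,2240,2242,2244,2246,2248,2250,2252,2254,2256,2258,2260,2262],[126,2164,206,487]),
(0,[],[]),
(0,[],[]),
(0,[],[]),
(0,[],[]),
(0,[],[]),
(0,[],[]),
(0,[],[]),
(0,[],[]),
(0,[],[]),
(0,[],[]),
(0,[],[]),
(0,[],[]),
(0,[],[]),
(7,[210,212,2266,2268,2270,2272,2274,2276,2278,2280,2282,2284,2286,2288,2290],[125,181,179,1025,1023]),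
(6,[23,21,19,79,77,321,400,1428,1430,1432,1434],[1,2,4,6,88,150,122,181,179,1025,1023,2293,2291]),
(1,[2295],[]),
(1,[2297,2290],[]),
(1,[2297,2289],[]),
(1,[1434,2300],[]),
(1,[2303],[]),
(1,[2305,2287],[]),
(9,[18,119,182,419,417,1995,2183,2181,2179],[17,15,4,13,49,152,191,189,187,185,419,420,2124,2172,2174]),
(1,[2308],[]),
(1,[2311,2177],[]),
(1,[2311,2178],[]),
(1,[2312,2314],[]),
(1,[2317],[]),
(1,[2319,2180],[]),
(1,[2174,2320],[]),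
(1,[2323],[]),
(1,[2325,2182],[]),
(2,[844],[168,310,846,848]),
(2,[176,1025,1023,2293],[322,933]),
(1,[2330],[]),
(1,[2333,2299],[]),
(1,[930,2334],[]),
(1,[2333,2292],[]),
(1,[2337],[]),
(1,[2341,1435],[]),
(1,[2341,1436],[]),
(1,[928,2344],[]),
(1,[2347],[]),
(1,[2349,1438],[]),
(2,[1504,2236],[212,2266,2268]),
(2,[1514],[224,1513,1540,1542]),
(2,[230,1719,1717],[1488,1627]),
(2,[242,244,642],[723,721]),
(2,[248,250,252,1659,1657,1655],[]),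
(1,[2360],[]),
(1,[2363,1653],[]),
(1,[246,2364],[]),
(1,[2363,1654],[]),
(1,[2367],[]),
(1,[2371,1651],[]),
(1,[643,2372],[]),
(1,[2375],[]),
(1,[2377,1649],[]),
(1,[2359,2378],[]),
(1,[2381],[]),
(1,[2383,1647],[]),
(1,[718,2384],[]),
(1,[2387],[]),
(1,[2389,1645],[]),
(2,[258,260,262],[887,934,936]),
(1,[2393],[]),
(1,[2395,938],[]),
(1,[265,2396],[]),
(1,[2395,937],[]),
(1,[2399],[]),
(1,[2403,940],[]),
(2,[272,274,276,791,413],[]),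
(2,[1217,1215,1213],[294,296,298]),
(1,[2408],[]),
(1,[2411,1211],[]),
(1,[301,2412],[]),
(1,[2411,1212],[]),
(1,[805,2416],[]),
(1,[2415],[]),
(1,[2421,1209],[]),
(1,[801,2422],[]),
(1,[2419],[]),
(1,[2427,1214],[]),
(1,[2425],[]),
(1,[2431,1207],[]),
(1,[396,2432],[]),
(1,[2435],[]),
(1,[2437,1205],[]),
(1,[394,2438],[]),
(1,[2441],[]),
(1,[2443,1203],[]),
(1,[2022,2444],[]),
(1,[2446],[]),
(1,[2449,2022],[]),
(2,[800,397,2090],[302,304,2076]),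
(1,[2452],[]),
(1,[2455,816],[]),
(1,[2167,2456],[]),
(1,[2455,2091],[]),
(1,[352,2460],[]),
(1,[2458],[]),
(1,[2465,2167],[]),
(1,[2465,2168],[]),
(1,[2463],[]),
(1,[2471,395],[]),
(1,[350,2472],[]),
(1,[2471,396],[]),
(1,[2475],[]),
(1,[2479,2451],[]),
(1,[2479,393],[]),
(1,[348,2482],[]),
(1,[2485],[]),
(1,[2487,391],[]),
(6,[2076,353,2476,398,115,113,111,109,107,105,103,1691,1765,1770,1772,1774,1776],[306,2062,113,1898,1859,1810,105]),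
(1,[2490],[]),
(1,[2493,1777],[]),
(1,[1566,2494],[]),
(1,[2497],[])]
theorem ok4 : data.stepsOK st4 1000 = true := by decide +kernel
def st5 : List Step := [(1,[2499,1775],[]),
(1,[1564,2500],[]),
(1,[2503],[]),
(1,[2505,1773],[]),
(1,[1562,2506],[]),
(1,[2509],[]),
(1,[2511,1771],[]),
(1,[1560,2512],[]),
(1,[2515],[]),
(1,[2517,1763],[]),
(1,[1558,2518],[]),
(1,[2517,1764],[]),
(1,[1796,2522],[]),
(1,[2521],[]),
(1,[2527,1761],[]),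
(1,[1556,2528],[]),
(1,[2527,1812],[]),
(1,[2524],[]),
(1,[2535,1796],[]),
(1,[2531],[]),
(1,[2539,1759],[]),
(2,[1426],[318,400,1428,1430]),
(2,[1323,1455],[338,388,1420]),
(2,[555],[378,380,500,476]),
(4,[414,1995,2327,2174,2312,2312,2312,2175,2173,2125,422,424,641,745],[790,277,275,527,525,523]),
(2,[448,450,452],[663,661]),
(2,[462,464,466,965,963,961],[]),
(1,[2552],[]),
(1,[2555,959],[]),
(1,[460,2556],[]),
(1,[2555,960],[]),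
(1,[2559],[]),
(1,[2563,957],[]),
(2,[],[480,482,484,2265,2263]),
(2,[506,508,510],[607,605]),
(2,[698,700,702],[829,827,1473]),
(1,[2571],[]),
(1,[2573,1471],[]),
(1,[705,2574],[]),
(1,[2573,1472],[]),
(1,[2577],[]),
(1,[2581,1469],[]),
(2,[712,714,716,2390,1643,1641],[]),
(1,[2584],[]),
(1,[2587,1639],[]),
(1,[710,2588],[]),
(1,[2587,1640],[]),
(1,[2591],[]),
(1,[2595,1637],[]),
(2,[1125],[866,868,1038,1004]),
(6,[1038,1004,2599,1123],[870,1034,292,1217,2429,805,300,800,398,116,182,184,186,188,750,698,700,702,704,706]),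
(1,[2600],[]),
(1,[2603,1122],[]),
(1,[2603,1121],[]),
(1,[709,2606],[]),
(1,[2609],[]),
(1,[2611,1119],[]),
(1,[2597,2612],[]),
(1,[2614],[]),
(1,[2617,1635],[]),
(1,[2617,2597],[]),
(2,[924,926,928,2342,2306],[]),
(2,[1072],[994,1071,1098,1100]),
(6,[1071,1098,1100,1102,1104],[996,62,64,66,68,70,72,74,321,319,1426,2542,1432,2306,2285,2283,2281,2279,2277]),
(1,[2627],[]),
(1,[2629,2276],[]),
(1,[2629,2275],[]),
(1,[1104,2632],[]),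
(1,[2635],[]),
(1,[2637,2273],[]),
(2,[2618],[2620,709,707,2582,1467]),
(1,[2640],[]),
(1,[2643,1633],[]),
(1,[1464,2644],[]),
(1,[2643,2619],[]),
(1,[2647],[]),
(1,[2651,1631],[]),
(0,[],[]),
(0,[],[]),
(3,[2164,205,203,1671,1734,1736,2654,2656],[128,130,2232]),
(0,[],[]),
(0,[],[]),
(0,[],[]),
(0,[],[]),
(0,[],[]),
(0,[],[]),
(5,[2164,205,1729,1565,1732,2199,2660,2662,2664,2666,2668,2670],[128,2218,2220]),
(0,[],[]),
(0,[],[]),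
(0,[],[]),
(0,[],[]),
(0,[],[]),
(0,[],[]),
(0,[],[]),
(0,[],[]),
(0,[],[]),
(0,[],[]),
(4,[128,2218,2674,2676,2678,2680,2682,2684,2686,2688,2690,2692],[2164,206,208,179,177,322,324,326]),
(2,[2218,2674],[130,132,134]),
(0,[],[]),
(0,[],[]),
(0,[],[]),
(0,[],[]),
(0,[],[]),
(0,[],[]),
(0,[],[]),
(0,[],[]),
(0,[],[]),
(0,[],[]),
(0,[],[]),
(0,[],[]),
(0,[],[]),
(5,[132,2698,2704,2706,2708,2710,2712,2714,2716,2718,2720,2722],[2232,2659,2657]),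
(0,[],[]),
(0,[],[]),
(0,[],[]),
(0,[],[]),
(0,[],[]),
(0,[],[]),
(0,[],[]),
(0,[],[]),
(0,[],[]),
(0,[],[]),
(0,[],[]),
(0,[],[]),
(0,[],[]),
(0,[],[]),
(4,[2232,2659,2726,2728,2730,2732,2734,2736,2738,2740,2742,2744,2746,2748,2750,2752],[132,134,2697,2676]),
(0,[],[]),
(0,[],[]),
(0,[],[]),
(0,[],[]),
(0,[],[]),
(0,[],[]),
(0,[],[]),
(0,[],[]),
(0,[],[]),
(0,[],[]),
(0,[],[]),
(0,[],[]),
(0,[],[]),
(0,[],[]),
(7,[2232,2234,2756,2758,2760,2762,2764,2766,2768,2770,2772,2774,2776,2778,2780,2782],[131,2218,2220,2673]),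
(0,[],[]),
(0,[],[]),
(0,[],[]),
(0,[],[]),
(0,[],[]),
(0,[],[]),
(3,[134,136,2786,2788,2790,2792,2794,2796],[2698,2704,2706]),
(0,[],[]),
(0,[],[]),
(0,[],[]),
(0,[],[]),
(0,[],[]),
(0,[],[]),
(5,[134,136,138,1400,1349,1347,2800,2802,2804,2806,2808,2810],[2698,2700,2702]),
(0,[],[]),
(0,[],[]),
(0,[],[]),
(0,[],[]),
(0,[],[]),
(0,[],[]),
(0,[],[]),
(0,[],[]),
(0,[],[]),
(7,[2698,2704,2820,2822,2824,2826,2828,2830],[133,131,129,127,125,181,179,1025,1023,1021,1019,1017]),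
(0,[],[]),
(0,[],[]),
(0,[],[]),
(0,[],[]),
(0,[],[]),
(0,[],[]),
(0,[],[]),
(0,[],[]),
(0,[],[]),
(5,[2697,2676,2755,2834,2836,2838,2840,2842,2844,2846,2848,2850],[136,2786,2788]),
(0,[],[]),
(0,[],[]),
(0,[],[]),
(0,[],[]),
(4,[136,2786,2854,2856,2858,2860],[2697,2675,2219,129,2164,206,487,2265,2263,2567,479,2547,554,377]),
(0,[],[]),
(0,[],[]),
(0,[],[]),
(0,[],[]),
(0,[],[]),
(0,[],[]),
(0,[],[]),
(0,[],[]),
(0,[],[]),
(7,[136,138,140,1386,1422,1424,2864,2866,2868,2870,2872,2874,2876,2878,2880],[135,133,2232,2659,2726]),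
(2,[2786,2854],[138,140,1386,366]),
(1,[2884],[]),
(1,[2887,2856],[]),
(1,[369,2888],[]),
(1,[2887,2855],[]),
(1,[2891],[]),
(1,[2895,2858],[]),
(9,[2786,2788,2853,2851,2849],[138,140,142,144,342,1404,1200,2481,350,2476,398,115,2063,308,186,762,41,664,666]),
(1,[2898],[]),
(1,[2901,2848],[]),
(1,[688,2902],[]),
(1,[2905],[]),
(1,[2907,2850],[]),
(1,[241,2908],[]),
(1,[2911],[]),
(1,[2913,2852],[]),
(1,[722,2914],[]),
(1,[2917],[]),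
(1,[2919,2789],[]),
(1,[2919,2790],[]),
(1,[720,2922],[]),
(1,[2925],[]),
(1,[2927,2792],[]),
(1,[718,2928],[]),
(1,[2931],[]),
(1,[2933,2794],[]),
(1,[2391,2934],[]),
(1,[2937],[]),
(1,[2939,2796],[]),
(0,[],[]),
(0,[],[]),
(0,[],[]),
(0,[],[]),
(0,[],[]),
(0,[],[]),
(0,[],[]),
(0,[],[]),
(0,[],[]),
(7,[1400,1349,2946,2948,2950,2952,2954,2956,2958],[139,2786,2921,722,242,244,246,248,250,1754,1756]),
(0,[],[]),
(0,[],[]),
(4,[142,1374,74,321,319,1426,2542,1432,2306,2622,923,2962,2964],[1386,366,2892,2921,721,2359,644]),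
(0,[],[]),
(0,[],[]),
(0,[],[]),
(0,[],[]),
(0,[],[]),
(0,[],[]),
(7,[341,388,1420,2545,1453,2968,2970,2972,2974,2976,2978],[147,145,143,141,139,2786,2921,722,242]),
(0,[],[]),
(0,[],[]),
(0,[],[]),
(0,[],[]),
(0,[],[]),
(0,[],[]),
(0,[],[]),
(0,[],[]),
(0,[],[])]
theorem ok5 : data.stepsOK st5 1250 = true := by decide +kernel
def st6 : List Step := [(0,[],[]),
(0,[],[]),
(5,[191,750,829,2988,2990,2992,2994,2996,2998,3000,3002],[154,235,233,1719]),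
(0,[],[]),
(0,[],[]),
(0,[],[]),
(0,[],[]),
(0,[],[]),
(0,[],[]),
(0,[],[]),
(0,[],[]),
(7,[154,156,724,3006,3008,3010,3012,3014,3016,3018,3020],[153,87,85,43,763,188,750,698,700]),
(0,[],[]),
(0,[],[]),
(0,[],[]),
(0,[],[]),
(0,[],[]),
(0,[],[]),
(3,[724,726,3024,3026,3028,3030,3032,3034],[158,160,162]),
(0,[],[]),
(0,[],[]),
(0,[],[]),
(0,[],[]),
(0,[],[]),
(0,[],[]),
(0,[],[]),
(3,[282,469,965,1059,3044,3046,3048,3050],[174,322,324]),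
(0,[],[]),
(0,[],[]),
(0,[],[]),
(0,[],[]),
(0,[],[]),
(5,[282,469,467,1060,3054,3056,3058,3060,3062],[174,176,178,209,487,485]),
(0,[],[]),
(0,[],[]),
(0,[],[]),
(0,[],[]),
(0,[],[]),
(0,[],[]),
(0,[],[]),
(0,[],[]),
(0,[],[]),
(4,[174,176,1025,1503,1501,3066,3068,3070,3072,3074,3076,3078,3080,3082],[282,839,57,256,887,934]),
(0,[],[]),
(0,[],[]),
(0,[],[]),
(0,[],[]),
(0,[],[]),
(0,[],[]),
(0,[],[]),
(0,[],[]),
(5,[185,419,420,422,3090,3092,3094,3096,3098,3100],[186,188,750,698,2982]),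
(0,[],[]),
(3,[189,187,309,307,2076,2467,818,3104],[750,829,2988]),
(0,[],[]),
(0,[],[]),
(0,[],[]),
(0,[],[]),
(3,[194,255,1659,1753,3108,3110,3112,3114],[228,1488,1490]),
(0,[],[]),
(0,[],[]),
(0,[],[]),
(0,[],[]),
(0,[],[]),
(0,[],[]),
(0,[],[]),
(0,[],[]),
(0,[],[]),
(0,[],[]),
(4,[228,230,1719,3005,3003,3120,3122,3124,3126,3128,3130,3132,3134,3136],[194,1483,97,1456,1581,1628]),
(0,[],[]),
(0,[],[]),
(0,[],[]),
(0,[],[]),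
(0,[],[]),
(0,[],[]),
(0,[],[]),
(0,[],[]),
(7,[228,1488,1627,2357,1715,3140,3142,3144,3146,3148,3150,3152,3154],[193,92,227,225,1514,2354,1544]),
(0,[],[]),
(0,[],[]),
(0,[],[]),
(0,[],[]),
(0,[],[]),
(0,[],[]),
(0,[],[]),
(0,[],[]),
(5,[202,204,206,487,2265,3160,3162,3164,3166,3168,3170,3172],[1671,1669,1667]),
(0,[],[]),
(0,[],[]),
(0,[],[]),
(0,[],[]),
(0,[],[]),
(0,[],[]),
(7,[1671,1734,1857,3178,3180,3182,3184,3186],[1487,100,1691,1689,2206,1733,1564,1728,203,1671,1669,3176]),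
(0,[],[]),
(0,[],[]),
(3,[1729,1565,1563,1929,3190,3192],[204,206,487,485,3065]),
(0,[],[]),
(0,[],[]),
(0,[],[]),
(0,[],[]),
(4,[204,2165,127,210,1504,2236,2352,2270,3196,3198,3200,3202],[1729,1566,103,1691,2536,1560,1929,3190]),
(6,[206,208,180,123,151,90,192,194,1483,98,1486,1671,1734,1857,3178,3180,3182],[205,203,1671,1669,3176,3189,3187]),
(1,[3207],[]),
(1,[3209,3186],[]),
(1,[3209,3185],[]),
(1,[3182,3212],[]),
(1,[3215],[]),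
(1,[3217,3210],[]),
(1,[3180,3218],[]),
(1,[3217,3183],[]),
(1,[3221],[]),
(1,[3225,3188],[]),
(0,[],[]),
(0,[],[]),
(0,[],[]),
(0,[],[]),
(3,[208,179,1025,1503,3228,3230,3232,3234],[487,2265,3160]),
(0,[],[]),
(0,[],[]),
(0,[],[]),
(0,[],[]),
(0,[],[]),
(0,[],[]),
(0,[],[]),
(0,[],[]),
(0,[],[]),
(0,[],[]),
(0,[],[]),
(4,[487,485,483,3238,3240,3242,3244,3246,3248,3250,3252,3254,3256,3258],[208,180,124,210,212,2266]),
(0,[],[]),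
(0,[],[]),
(0,[],[]),
(0,[],[]),
(0,[],[]),
(0,[],[]),
(3,[2266,3261,3262,3264,3266,3268,3270,3272],[214,216,218]),
(0,[],[]),
(0,[],[]),
(0,[],[]),
(0,[],[]),
(0,[],[]),
(0,[],[]),
(3,[3276,3278,3280,3282,3284,3286],[218,220,222,1514,1516]),
(0,[],[]),
(0,[],[]),
(0,[],[]),
(0,[],[]),
(0,[],[]),
(0,[],[]),
(0,[],[]),
(0,[],[]),
(0,[],[]),
(0,[],[]),
(5,[3276,3278,3290,3292,3294,3296,3298,3300,3302,3304,3306,3308],[218,3275,3273]),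
(0,[],[]),
(0,[],[]),
(0,[],[]),
(0,[],[]),
(0,[],[]),
(0,[],[]),
(0,[],[]),
(0,[],[]),
(0,[],[]),
(0,[],[]),
(7,[232,234,156,724,726,728,730,3316,3318,3320,3322,3324,3326,3328,3330],[1719,1717,1715,1713,1711]),
(0,[],[]),
(0,[],[]),
(0,[],[]),
(0,[],[]),
(0,[],[]),
(0,[],[]),
(0,[],[]),
(0,[],[]),
(0,[],[]),
(4,[427,641,745,2548,522,524,3334,3336,3338,3340,3342,3344,3346,3348,3350],[237,38,664,690,692]),
(0,[],[]),
(0,[],[]),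
(0,[],[]),
(0,[],[]),
(0,[],[]),
(3,[239,427,641,639,3362],[240,723,2920,2893,368,370]),
(0,[],[]),
(0,[],[]),
(0,[],[]),
(0,[],[]),
(0,[],[]),
(3,[243,241,688,668,670,3366,3368,3370,3372,3374],[2981]),
(0,[],[]),
(0,[],[]),
(0,[],[]),
(0,[],[]),
(0,[],[]),
(0,[],[]),
(0,[],[]),
(0,[],[]),
(0,[],[]),
(0,[],[]),
(0,[],[]),
(4,[2981,2979,2977,3378,3380,3382,3384,3386,3388,3390,3392,3394,3396,3398],[243,723,721,719,717,715]),
(0,[],[]),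
(0,[],[]),
(0,[],[]),
(0,[],[]),
(0,[],[]),
(0,[],[]),
(0,[],[]),
(0,[],[]),
(0,[],[]),
(0,[],[]),
(0,[],[]),
(0,[],[]),
(0,[],[]),
(7,[2981,3377,3402,3404,3406,3408,3410,3412,3414,3416,3418,3420,3422,3424,3426],[244,642,644,646,648]),
(0,[],[]),
(0,[],[]),
(0,[],[]),
(0,[],[]),
(0,[],[]),
(0,[],[]),
(0,[],[]),
(0,[],[]),
(5,[245,2981,3377,3375,3430,3432,3434,3436,3438,3440,3442,3444],[246,248,1539]),
(6,[245,243,723,2920,2787,137,2697,2675,2219,129,2164,205,1729,1566,103,1691,2536,1559,2532],[246,248,1539,3447]),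
(0,[],[]),
(0,[],[]),
(0,[],[]),
(0,[],[]),
(0,[],[]),
(0,[],[]),
(0,[],[]),
(0,[],[]),
(0,[],[]),
(5,[2368,3158,3450,3452,3454,3456,3458,3460,3462,3464,3466],[247,642,644,646]),
(0,[],[]),
(0,[],[]),
(0,[],[]),
(0,[],[]),
(0,[],[]),
(0,[],[]),
(0,[],[]),
(0,[],[]),
(0,[],[]),
(0,[],[]),
(0,[],[]),
(0,[],[]),
(0,[],[]),
(0,[],[]),
(4,[1754,1756,2961,3474,3476,3478,3480,3482,3484,3486,3488,3490,3492,3494,3496],[251,249,2368,3158,3450])]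
theorem ok6 : data.stepsOK st6 1500 = true := by decide +kernel
def st7 : List Step := [(0,[],[]),
(0,[],[]),
(0,[],[]),
(0,[],[]),
(0,[],[]),
(0,[],[]),
(0,[],[]),
(0,[],[]),
(0,[],[]),
(0,[],[]),
(0,[],[]),
(0,[],[]),
(0,[],[]),
(0,[],[]),
(7,[1754,3118,3500,3502,3504,3506,3508,3510,3512,3514,3516,3518,3520,3522,3524,3526],[252,1659,1753,1751]),
(0,[],[]),
(0,[],[]),
(0,[],[]),
(0,[],[]),
(0,[],[]),
(0,[],[]),
(0,[],[]),
(0,[],[]),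
(0,[],[]),
(0,[],[]),
(0,[],[]),
(0,[],[]),
(0,[],[]),
(7,[907,966,3530,3532,3534,3536,3538,3540,3542,3544,3546,3548,3550,3552,3554],[260,262,264,266,268]),
(0,[],[]),
(0,[],[]),
(0,[],[]),
(0,[],[]),
(0,[],[]),
(0,[],[]),
(3,[261,907,905,903,3558,3560,3562,3564,3566,3568],[908]),
(0,[],[]),
(0,[],[]),
(0,[],[]),
(0,[],[]),
(0,[],[]),
(0,[],[]),
(0,[],[]),
(0,[],[]),
(0,[],[]),
(5,[261,907,966,968,3572,3574,3576,3578,3580,3582,3584,3586,3588],[908,910]),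
(0,[],[]),
(0,[],[]),
(0,[],[]),
(0,[],[]),
(0,[],[]),
(0,[],[]),
(0,[],[]),
(0,[],[]),
(0,[],[]),
(0,[],[]),
(0,[],[]),
(0,[],[]),
(4,[908,910,912,3592,3594,3596,3598,3600,3602,3604,3606,3608,3610,3612,3614],[261,259,887,885,978]),
(0,[],[]),
(0,[],[]),
(0,[],[]),
(0,[],[]),
(0,[],[]),
(0,[],[]),
(0,[],[]),
(0,[],[]),
(0,[],[]),
(0,[],[]),
(0,[],[]),
(0,[],[]),
(3,[263,908,910,3591,3632,3634,3636,3638,3640],[264,2404]),
(0,[],[]),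
(0,[],[]),
(0,[],[]),
(0,[],[]),
(0,[],[]),
(0,[],[]),
(0,[],[]),
(0,[],[]),
(0,[],[]),
(5,[263,908,3571,3569,3644,3646,3648,3650,3652,3654,3656,3658,3660],[264,266]),
(0,[],[]),
(0,[],[]),
(0,[],[]),
(0,[],[]),
(0,[],[]),
(0,[],[]),
(0,[],[]),
(0,[],[]),
(0,[],[]),
(0,[],[]),
(0,[],[]),
(0,[],[]),
(0,[],[]),
(7,[264,2404,942,3664,3666,3668,3670,3672,3674,3676,3678,3680,3682,3684,3686,3688],[2400,935,885,883]),
(2,[266,268,3557],[2404,942,3664]),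
(1,[3693],[]),
(1,[3695,3666],[]),
(1,[3554,3696],[]),
(1,[3695,3665],[]),
(1,[3699],[]),
(1,[3703,3668],[]),
(0,[],[]),
(0,[],[]),
(0,[],[]),
(0,[],[]),
(0,[],[]),
(0,[],[]),
(3,[267,265,2400,3085,3083,3708,3710,3712,3714,3716],[3663]),
(0,[],[]),
(0,[],[]),
(0,[],[]),
(0,[],[]),
(0,[],[]),
(0,[],[]),
(0,[],[]),
(0,[],[]),
(0,[],[]),
(0,[],[]),
(0,[],[]),
(0,[],[]),
(4,[3663,3661,3720,3722,3724,3726,3728,3730,3732,3734,3736,3738,3740,3742],[267,2404,942,944,946,948]),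
(0,[],[]),
(0,[],[]),
(0,[],[]),
(0,[],[]),
(0,[],[]),
(0,[],[]),
(0,[],[]),
(0,[],[]),
(0,[],[]),
(0,[],[]),
(0,[],[]),
(0,[],[]),
(0,[],[]),
(7,[3663,3719,3746,3748,3750,3752,3754,3756,3758,3760,3762,3764,3766,3768,3770],[268,3557,3555,3553,3551]),
(0,[],[]),
(0,[],[]),
(0,[],[]),
(0,[],[]),
(0,[],[]),
(0,[],[]),
(0,[],[]),
(0,[],[]),
(0,[],[]),
(0,[],[]),
(0,[],[]),
(4,[270,272,274,622,3774,3776,3778,3780,3782,3784,3786,3788,3790,3792,3794],[269,267,2404,3643,3706]),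
(0,[],[]),
(0,[],[]),
(0,[],[]),
(0,[],[]),
(0,[],[]),
(0,[],[]),
(0,[],[]),
(0,[],[]),
(0,[],[]),
(0,[],[]),
(0,[],[]),
(5,[2407,411,3802,3804,3806,3808,3810,3812,3814,3816,3818],[271,3557,3555,3553]),
(0,[],[]),
(0,[],[]),
(0,[],[]),
(0,[],[]),
(3,[273,271,3557,3555,3704,3822,3824,3826,3828],[527,525]),
(0,[],[]),
(0,[],[]),
(0,[],[]),
(0,[],[]),
(0,[],[]),
(0,[],[]),
(0,[],[]),
(0,[],[]),
(0,[],[]),
(5,[275,527,525,3831,3832,3834,3836,3838,3840,3842,3844,3846,3848],[622,3774]),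
(0,[],[]),
(0,[],[]),
(0,[],[]),
(0,[],[]),
(0,[],[]),
(0,[],[]),
(0,[],[]),
(0,[],[]),
(0,[],[]),
(0,[],[]),
(0,[],[]),
(0,[],[]),
(4,[622,3774,3776,3852,3854,3856,3858,3860,3862,3864,3866,3868,3870,3872,3874],[275,273,2407,411,3802]),
(0,[],[]),
(0,[],[]),
(0,[],[]),
(0,[],[]),
(0,[],[]),
(0,[],[]),
(0,[],[]),
(0,[],[]),
(0,[],[]),
(0,[],[]),
(0,[],[]),
(7,[622,624,3878,3880,3882,3884,3886,3888,3890,3892,3894,3896,3898],[276,791,414,1995,2327,2173,2032]),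
(0,[],[]),
(0,[],[]),
(0,[],[]),
(3,[277,622,3774,3851,3902,3904,3906],[278,497,383,381]),
(0,[],[]),
(0,[],[]),
(0,[],[]),
(0,[],[]),
(0,[],[]),
(0,[],[]),
(0,[],[]),
(0,[],[]),
(0,[],[]),
(3,[290,292,1217,3918,3920,3922,3924,3926],[977,1040,1042]),
(0,[],[]),
(0,[],[]),
(0,[],[]),
(0,[],[]),
(0,[],[]),
(0,[],[]),
(0,[],[]),
(0,[],[]),
(0,[],[]),
(0,[],[]),
(0,[],[]),
(0,[],[]),
(0,[],[]),
(0,[],[]),
(0,[],[]),
(7,[977,1040,1185,3944,3946,3948,3950,3952,3954,3956,3958],[843,60,997,995,1072,2624,1102,2638,3196]),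
(0,[],[]),
(0,[],[]),
(0,[],[]),
(0,[],[]),
(3,[1035,871,869,1257,3962,3964,3966,3968],[292,294,3930]),
(0,[],[]),
(0,[],[]),
(0,[],[]),
(0,[],[]),
(0,[],[]),
(0,[],[]),
(0,[],[]),
(0,[],[]),
(5,[1035,871,1038,1258,3972,3974,3976,3978,3980,3982,3984,3986],[292,1217,3918]),
(0,[],[]),
(0,[],[]),
(0,[],[]),
(0,[],[]),
(0,[],[])]
theorem ok7 : data.stepsOK st7 1750 = true := by decide +kernel
def st8 : List Step := [(0,[],[]),
(0,[],[]),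
(0,[],[]),
(0,[],[]),
(0,[],[]),
(4,[292,1217,2429,434,3990,3992,3994,3996,3998,4000,4002,4004,4006,4008],[1035,872,63,997,1071,1098]),
(0,[],[]),
(0,[],[]),
(0,[],[]),
(0,[],[]),
(0,[],[]),
(0,[],[]),
(0,[],[]),
(0,[],[]),
(0,[],[]),
(0,[],[]),
(0,[],[]),
(0,[],[]),
(0,[],[]),
(0,[],[]),
(4,[3930,3971,4014,4016,4018,4020,4022,4024,4026,4028,4030,4032,4034,4036,4038],[296,298,804,434,436]),
(0,[],[]),
(0,[],[]),
(0,[],[]),
(0,[],[]),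
(0,[],[]),
(0,[],[]),
(0,[],[]),
(0,[],[]),
(0,[],[]),
(0,[],[]),
(0,[],[]),
(0,[],[]),
(0,[],[]),
(0,[],[]),
(7,[3930,3932,4042,4044,4046,4048,4050,4052,4054,4056,4058,4060,4062,4064,4066,4068],[295,1217,3918,3989]),
(6,[130,132,134,136,138,1400,1349,2946,2948,2950,2952],[129,127,210,1504,2236,2352,2270,3196,3961,3959,3957,3955,3953]),
(1,[4073],[]),
(1,[4075,3951],[]),
(1,[2952,4076],[]),
(1,[4079],[]),
(1,[4081,3949],[]),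
(2,[424,641,745,743],[3090,3354]),
(1,[4085],[]),
(1,[4087,3356],[]),
(1,[740,4088],[]),
(1,[4087,3355],[]),
(1,[4091],[]),
(1,[4095,3358],[]),
(2,[456,458,2564,955],[3798,3800]),
(1,[4099],[]),
(1,[4101,3801],[]),
(2,[3774,3776,3778],[624,3878,3880]),
(1,[4105],[]),
(1,[4107,3882],[]),
(1,[3781,4108],[]),
(1,[4107,3881],[]),
(1,[4111],[]),
(1,[4115,3884],[]),
(2,[646,648,3429],[2967,2965,2963]),
(1,[4118],[]),
(1,[4121,3428],[]),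
(1,[920,4122],[]),
(1,[4124],[]),
(1,[4127,920],[]),
(1,[4127,919],[]),
(1,[648,4130],[]),
(1,[4133],[]),
(1,[4135,917],[]),
(1,[3468,4136],[]),
(1,[4138],[]),
(1,[4141,3468],[]),
(1,[4141,3467],[]),
(2,[3691,3689],[882,978,3617]),
(6,[978,3617,4147,3687],[884,886,257,56,838,283,174,176,178,209,207,2165,128,2218,2220,2673,2785,2783,2781,2779]),
(1,[4148],[]),
(1,[4151,3686],[]),
(2,[910,912,914,4144],[3571,3618]),
(1,[4155],[]),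
(1,[4157,3619],[]),
(1,[4157,3620],[]),
(1,[4144,4160],[]),
(1,[4163],[]),
(1,[4165,3622],[]),
(1,[4143,4166],[]),
(1,[4169],[]),
(1,[4171,3624],[]),
(1,[646,4172],[]),
(1,[4175],[]),
(1,[4177,3626],[]),
(1,[2966,4178],[]),
(1,[4181],[]),
(1,[4183,3628],[]),
(1,[3471,4184],[]),
(1,[4187],[]),
(1,[4189,3630],[]),
(6,[3571,4159,4145,4142,647,645,643,245,243,241,239,427,425,3090,4093,741,4096],[909,262,264,266,268,3557,3555]),
(1,[4193],[]),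
(1,[4195,3554],[]),
(1,[4195,3553],[]),
(1,[4096,4198],[]),
(1,[4195,3704],[]),
(1,[3361,4202],[]),
(1,[4201],[]),
(1,[4207,3821],[]),
(1,[741,4208],[]),
(1,[4207,3551],[]),
(1,[738,4212],[]),
(1,[4205],[]),
(1,[4217,3670],[]),
(1,[4211],[]),
(1,[4221,3819],[]),
(1,[4093,4222],[]),
(1,[4215],[]),
(1,[4227,3773],[]),
(1,[736,4228],[]),
(1,[4225],[]),
(1,[4233,3817],[]),
(1,[3093,4234],[]),
(1,[4231],[]),
(1,[4239,3771],[]),
(1,[734,4240],[]),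
(1,[4237],[]),
(1,[4245,3815],[]),
(1,[4243],[]),
(1,[4249,3769],[]),
(1,[732,4250],[]),
(1,[4253],[]),
(1,[4255,3767],[]),
(1,[730,4256],[]),
(1,[4259],[]),
(1,[4261,3765],[]),
(1,[3039,4262],[]),
(1,[4265],[]),
(1,[4267,3763],[]),
(3,[3701,4197,4097,740,742,2548,522,3831,3832,3834],[944,946]),
(1,[4270],[]),
(1,[4273,3836],[]),
(1,[949,4274],[]),
(1,[4277],[]),
(1,[4279,3838],[]),
(1,[3744,4280],[]),
(1,[4283],[]),
(1,[4285,3840],[]),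
(1,[3742,4286],[]),
(1,[4289],[]),
(1,[4291,3842],[]),
(2,[3934],[974,1040,1185,3944]),
(2,[2833],[1016,1018,3086,3088]),
(2,[2638,3196,3198],[1104,1106]),
(2,[1532,1534,1536,3447,3449,2533],[]),
(1,[4300],[]),
(1,[4303,1558],[]),
(1,[1530,4304],[]),
(1,[4303,1557],[]),
(1,[1533,4308],[]),
(1,[4303,2532],[]),
(1,[4307],[]),
(1,[4315,1560],[]),
(1,[1528,4316],[]),
(1,[4311],[]),
(1,[4321,2540],[]),
(1,[4321,1555],[]),
(1,[1535,4324],[]),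
(1,[4319],[]),
(1,[4329,1929],[]),
(1,[4329,1562],[]),
(1,[1526,4332],[]),
(1,[4327],[]),
(1,[4337,1553],[]),
(1,[1537,4338],[]),
(1,[4335],[]),
(1,[4343,1564],[]),
(1,[1524,4344],[]),
(1,[4343,1732],[]),
(1,[4341],[]),
(1,[4351,1551],[]),
(1,[1539,4352],[]),
(1,[4347],[]),
(1,[4357,1728],[]),
(1,[4357,1566],[]),
(1,[1522,4360],[]),
(1,[4355],[]),
(1,[4365,1549],[]),
(1,[251,4366],[]),
(1,[4362],[]),
(1,[4371,1522],[]),
(1,[4371,1521],[]),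
(1,[102,4374],[]),
(1,[4369],[]),
(1,[4379,1547],[]),
(1,[253,4380],[]),
(1,[4377],[]),
(1,[4385,1519],[]),
(1,[100,4386],[]),
(1,[4383],[]),
(1,[4391,1545],[]),
(1,[255,4392],[]),
(1,[4391,3157],[]),
(1,[1658,4396],[]),
(1,[4389],[]),
(1,[4401,1517],[]),
(1,[98,4402],[]),
(1,[4401,3289],[]),
(1,[1487,4406],[]),
(1,[4395],[]),
(1,[4411,1543],[]),
(1,[194,4412],[]),
(1,[4399],[]),
(1,[4417,3155],[]),
(1,[1656,4418],[]),
(1,[4405],[]),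
(1,[4423,1515],[]),
(1,[96,4424],[]),
(1,[4409],[]),
(1,[4429,3287],[]),
(1,[1670,4430],[]),
(1,[4415],[]),
(1,[4435,1541],[]),
(1,[192,4436],[]),
(1,[4421],[]),
(1,[4441,3153],[]),
(1,[3159,4442],[]),
(1,[4427],[]),
(1,[4447,223],[]),
(1,[1457,4448],[]),
(1,[4447,224],[]),
(1,[94,4452],[]),
(1,[4433],[]),
(1,[4457,3285],[]),
(1,[1668,4458],[]),
(1,[4439],[]),
(1,[4463,1511],[]),
(1,[90,4464],[]),
(1,[4444],[]),
(1,[4469,3159],[]),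
(1,[4469,3450],[]),
(1,[4450],[]),
(1,[4475,1457],[]),
(1,[4475,1458],[]),
(1,[220,4478],[]),
(1,[4475,1581],[]),
(1,[1569,4482],[]),
(1,[4455],[]),
(1,[4487,226],[]),
(1,[4461],[]),
(1,[4491,3283],[]),
(1,[1666,4492],[]),
(1,[4467],[]),
(1,[4497,1509],[])]
theorem ok8 : data.stepsOK st8 2000 = true := by decide +kernel
def st9 : List Step := [(1,[151,4498],[]),
(1,[4481],[]),
(1,[4503,1601],[]),
(1,[218,4504],[]),
(1,[4503,1460],[]),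
(1,[3274,4508],[]),
(1,[4485],[]),
(1,[4513,1579],[]),
(1,[1571,4514],[]),
(1,[4513,1628],[]),
(1,[3313,4518],[]),
(1,[4495],[]),
(1,[4523,3281],[]),
(1,[1664,4524],[]),
(1,[4501],[]),
(1,[4529,1507],[]),
(1,[123,4530],[]),
(1,[4507],[]),
(1,[4535,1660],[]),
(1,[3277,4536],[]),
(1,[4510],[]),
(1,[4541,3273],[]),
(1,[1603,4542],[]),
(1,[4541,3274],[]),
(1,[4517],[]),
(1,[4549,1577],[]),
(1,[1573,4550],[]),
(1,[4549,1672],[]),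
(1,[3315,4554],[]),
(1,[4520],[]),
(1,[4559,3313],[]),
(1,[4527],[]),
(1,[4563,3290],[]),
(1,[4533],[]),
(1,[4567,2236],[]),
(1,[180,4568],[]),
(1,[4567,1505],[]),
(1,[125,4572],[]),
(1,[4538],[]),
(1,[4577,3277],[]),
(1,[4545],[]),
(1,[4581,3311],[]),
(1,[1605,4582],[]),
(1,[4581,3271],[]),
(1,[4553],[]),
(1,[4589,1575],[]),
(1,[4556],[]),
(1,[4593,3315],[]),
(1,[4571],[]),
(1,[4597,2352],[]),
(1,[208,4598],[]),
(1,[4575],[]),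
(1,[4603,211],[]),
(1,[4603,212],[]),
(1,[127,4606],[]),
(1,[4585],[]),
(1,[4611,3309],[]),
(1,[4601],[]),
(1,[4615,2270],[]),
(1,[486,4616],[]),
(1,[4615,2269],[]),
(1,[206,4620],[]),
(1,[4609],[]),
(1,[4625,214],[]),
(1,[129,4626],[]),
(1,[4619],[]),
(1,[4631,3196],[]),
(1,[484,4632],[]),
(1,[4631,2639],[]),
(1,[2264,4636],[]),
(1,[4623],[]),
(1,[4641,3261],[]),
(1,[204,4642],[]),
(1,[4629],[]),
(1,[4647,2231],[]),
(1,[2219,4648],[]),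
(1,[4647,216],[]),
(1,[131,4652],[]),
(1,[4635],[]),
(1,[4657,3961],[]),
(1,[3064,4658],[]),
(1,[4657,3198],[]),
(1,[482,4662],[]),
(1,[4638],[]),
(1,[4667,3160],[]),
(1,[1102,4668],[]),
(1,[4667,2264],[]),
(1,[4667,2263],[]),
(1,[1105,4674],[]),
(1,[4645],[]),
(1,[4679,3262],[]),
(1,[202,4680],[]),
(1,[4651],[]),
(1,[4685,2229],[]),
(1,[2221,4686],[]),
(1,[4655],[]),
(1,[4691,218],[]),
(1,[2233,4692],[]),
(1,[4691,4579],[]),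
(1,[133,4696],[]),
(1,[4661],[]),
(1,[4701,3959],[]),
(1,[3062,4702],[]),
(1,[4665],[]),
(1,[4707,3200],[]),
(1,[3239,4708],[]),
(1,[4707,4298],[]),
(1,[480,4712],[]),
(1,[4671],[]),
(1,[4717,3237],[]),
(1,[1100,4718],[]),
(1,[4717,3162],[]),
(1,[2624,4722],[]),
(1,[4677],[]),
(1,[4727,2261],[]),
(1,[2631,4728],[]),
(1,[4683],[]),
(1,[4733,3264],[]),
(1,[1670,4734],[]),
(1,[4689],[]),
(1,[4739,2227],[]),
(1,[2223,4740],[]),
(1,[4694],[]),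
(1,[4745,2233],[]),
(1,[4745,2659],[]),
(1,[4546,4748],[]),
(1,[4745,2234],[]),
(1,[221,4752],[]),
(1,[4699],[]),
(1,[4757,1662],[]),
(1,[2699,4758],[]),
(1,[4705],[]),
(1,[4763,3957],[]),
(1,[4710],[]),
(1,[4767,3239],[]),
(1,[4715],[]),
(1,[4771,1108],[]),
(1,[478,4772],[]),
(1,[4771,1107],[]),
(1,[4721],[]),
(1,[4779,3235],[]),
(1,[4010,4780],[]),
(1,[4725],[]),
(1,[4785,3164],[]),
(1,[1075,4786],[]),
(1,[4730],[]),
(1,[4791,2631],[]),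
(1,[4737],[]),
(1,[4795,3266],[]),
(1,[1735,4796],[]),
(1,[4743],[]),
(1,[4801,2225],[]),
(1,[4751],[]),
(1,[4805,2657],[]),
(1,[1603,4806],[]),
(1,[4805,2726],[]),
(1,[1463,4810],[]),
(1,[4755],[]),
(1,[4815,2756],[]),
(1,[1569,4816],[]),
(1,[4760],[]),
(1,[4821,2699],[]),
(1,[4821,2700],[]),
(1,[1665,4824],[]),
(1,[4821,2704],[]),
(1,[4565,4828],[]),
(1,[4775],[]),
(1,[4833,1110],[]),
(1,[2546,4834],[]),
(1,[4782],[]),
(1,[4839,4010],[]),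
(1,[4839,4009],[]),
(1,[3232,4842],[]),
(1,[4789],[]),
(1,[4847,3166],[]),
(1,[4799],[]),
(1,[4851,3268],[]),
(1,[1737,4852],[]),
(1,[4809],[]),
(1,[4857,2725],[]),
(1,[1605,4858],[]),
(1,[4813],[]),
(1,[4863,2883],[]),
(1,[2653,4864],[]),
(1,[4819],[]),
(1,[4869,2758],[]),
(1,[4560,4870],[]),
(1,[4827],[]),
(1,[4875,2702],[]),
(1,[1667,4876],[]),
(1,[4875,2814],[]),
(1,[3174,4880],[]),
(1,[4830],[]),
(1,[4885,4565],[]),
(1,[4837],[]),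
(1,[4889,1112],[]),
(1,[555,4890],[]),
(1,[4845],[]),
(1,[4895,4007],[]),
(1,[4855],[]),
(1,[4899,4587],[]),
(1,[4861],[]),
(1,[4903,2723],[]),
(1,[4613,4904],[]),
(1,[4867],[]),
(1,[4909,2881],[]),
(1,[3138,4910],[]),
(1,[4873],[]),
(1,[4915,2760],[]),
(1,[3138,4916],[]),
(1,[4879],[]),
(1,[4921,2813],[]),
(1,[3177,4922],[]),
(1,[4882],[]),
(1,[4927,3173],[]),
(1,[2817,4928],[]),
(1,[4927,3174],[]),
(1,[4893],[]),
(1,[4935,1114],[]),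
(1,[379,4936],[]),
(1,[4906],[]),
(1,[4941,4613],[]),
(1,[4912],[]),
(1,[4945,3138],[]),
(1,[4945,4918],[]),
(1,[4949,4946],[]),
(1,[4924],[]),
(1,[4953,3227],[]),
(1,[4953,3177],[]),
(1,[4931],[]),
(1,[4959,3171],[]),
(1,[2819,4960],[]),
(1,[4939],[]),
(1,[4965,1116],[]),
(1,[3908,4966],[]),
(1,[4963],[]),
(1,[4971,3169],[]),
(1,[4968],[]),
(1,[4975,3908],[]),
(1,[4975,3907],[]),
(1,[2621,4978],[]),
(1,[4981],[]),
(1,[4983,3905],[]),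
(1,[711,4984],[]),
(1,[4987],[]),
(1,[4989,3903],[]),
(1,[713,4990],[]),
(1,[4993],[]),
(1,[4995,3850],[]),
(1,[3400,4996],[])]
theorem ok9 : data.stepsOK st9 2250 = true := by decide +kernel
def st10 : List Step := [(1,[4995,3849],[]),
(1,[715,5000],[]),
(1,[4999],[]),
(1,[5005,3776],[]),
(1,[5005,3775],[]),
(1,[3398,5008],[]),
(1,[5003],[]),
(1,[5013,3847],[]),
(1,[5010],[]),
(1,[5017,3398],[]),
(1,[5017,3397],[]),
(1,[625,5020],[]),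
(1,[5023],[]),
(1,[5025,3395],[]),
(1,[3879,5026],[]),
(1,[5028],[]),
(1,[5031,3879],[]),
(1,[5031,4113],[]),
(2,[1604,1606,1608],[4901,1738]),
(2,[3333],[1710,1712,3140,3142]),
(2,[2678,2680,2682],[2755,2753]),
(2,[],[3146,3148,3150,4472,3499]),
(6,[4472,3499,5043,3145,5039,3331],[4470,2369,247,642,2358,720,2920,2893,368,2896,2860,2862,376,555,553,551,549]),
(2,[],[3326,3328,5044,548,550]),
(2,[4097,739,737],[3360,4218]),
(6,[3526,3528,1750,1752,1658,254,1483,97,95,4489,93,91,89,7,13,49,152,154,156,724,3006,3008,3010],[3525]),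
(1,[5051],[]),
(1,[5053,3524],[]),
(3,[3595,3593,914,4142,647,645,2358,719,717,5014,3845,4293],[]),
(1,[5056],[]),
(1,[5059,4292],[]),
(1,[5059,3742],[]),
(1,[3597,5062],[]),
(1,[5065],[]),
(1,[5067,3744],[]),
(2,[3720],[3660,3719,3746,3748]),
(0,[],[]),
(0,[],[]),
(0,[],[]),
(0,[],[]),
(0,[],[]),
(0,[],[]),
(0,[],[]),
(0,[],[]),
(0,[],[]),
(0,[],[]),
(0,[],[]),
(0,[],[]),
(0,[],[]),
(4,[1097,4012,5072,5074,5076,5078,5080,5082,5084,5086,5088,5090,5092,5094,5096],[298,804,2428,3918,3920]),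
(0,[],[]),
(0,[],[]),
(0,[],[]),
(0,[],[]),
(0,[],[]),
(0,[],[]),
(0,[],[]),
(0,[],[]),
(0,[],[]),
(0,[],[]),
(0,[],[]),
(0,[],[]),
(0,[],[]),
(0,[],[]),
(0,[],[]),
(0,[],[]),
(4,[324,3053,5106,5108,5110,5112,5114,5116,5118,5120,5122,5124,5126,5128,5130],[933,2338,1022,1503,3228]),
(2,[3053,5106],[326,2695,2693]),
(0,[],[]),
(0,[],[]),
(0,[],[]),
(0,[],[]),
(0,[],[]),
(5,[349,2488,1420,1362,1364,5136,5138,5140,5142,5144],[350,352,2467,818,3104]),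
(0,[],[]),
(0,[],[]),
(0,[],[]),
(0,[],[]),
(0,[],[]),
(0,[],[]),
(0,[],[]),
(0,[],[]),
(4,[2467,818,820,5148,5150,5152,5154,5156,5158,5160,5162],[353,2476,801,301,804,2428,3918,3920,5099]),
(0,[],[]),
(0,[],[]),
(0,[],[]),
(0,[],[]),
(0,[],[]),
(0,[],[]),
(0,[],[]),
(0,[],[]),
(0,[],[]),
(0,[],[]),
(0,[],[]),
(0,[],[]),
(0,[],[]),
(0,[],[]),
(0,[],[]),
(4,[368,2896,2860,5174,5176,5178,5180,5182,5184,5186,5188,5190,5192,5194],[2892,2787,138,1400,1349,2946]),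
(0,[],[]),
(0,[],[]),
(0,[],[]),
(0,[],[]),
(0,[],[]),
(0,[],[]),
(0,[],[]),
(0,[],[]),
(0,[],[]),
(0,[],[]),
(0,[],[]),
(4,[3365,3363,637,635,633,5198,5200,5202,5204,5206,5208,5210,5212,5214,5216,5218],[372,374,2863,5174]),
(0,[],[]),
(3,[2863,5174,5176],[376,378,4977,2649,1465,1463,1602,1604,4943]),
(1,[5224],[]),
(1,[5227,5178],[]),
(1,[2720,5228],[]),
(1,[5227,5177],[]),
(1,[5231],[]),
(1,[5235,5180],[]),
(0,[],[]),
(0,[],[]),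
(0,[],[]),
(0,[],[]),
(0,[],[]),
(0,[],[]),
(0,[],[]),
(0,[],[]),
(5,[2863,5174,5221,5238,5240,5242,5244,5246,5248,5250,5252],[376,555,553,551]),
(0,[],[]),
(0,[],[]),
(0,[],[]),
(0,[],[]),
(0,[],[]),
(0,[],[]),
(3,[500,3914,5260,5262,5264,5266],[382,384,446,448,575]),
(6,[384,386,27,25,21,119,117,115,2063,307,2076,2467,2468,5100,5166,5168,5170],[383,381,4977,2649,1466,2583,705]),
(1,[5270],[]),
(1,[5273,5171],[]),
(1,[2579,5274],[]),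
(1,[5277],[]),
(1,[5279,5169],[]),
(1,[824,5280],[]),
(1,[5283],[]),
(1,[5285,5167],[]),
(0,[],[]),
(0,[],[]),
(0,[],[]),
(0,[],[]),
(0,[],[]),
(0,[],[]),
(0,[],[]),
(0,[],[]),
(0,[],[]),
(0,[],[]),
(0,[],[]),
(0,[],[]),
(0,[],[]),
(7,[414,416,420,2124,2032,2034,2036,5304,5306,5308,5310,5312],[413,2406,271,3557,3700,943,3643,3641]),
(0,[],[]),
(0,[],[]),
(0,[],[]),
(0,[],[]),
(0,[],[]),
(3,[2428,3918,3989,3987,5320,5322,5324],[434,436,438,584]),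
(0,[],[]),
(0,[],[]),
(0,[],[]),
(3,[4041,4039,5328,5330,5332],[438,440,442,502,504,607]),
(0,[],[]),
(0,[],[]),
(0,[],[]),
(0,[],[]),
(0,[],[]),
(0,[],[]),
(0,[],[]),
(0,[],[]),
(0,[],[]),
(5,[4041,4039,4037,5336,5338,5340,5342,5344,5346,5348,5350,5352],[438,584,5327]),
(0,[],[]),
(0,[],[]),
(0,[],[]),
(0,[],[]),
(0,[],[]),
(0,[],[]),
(0,[],[]),
(2,[584,586],[440,5288,5364]),
(0,[],[]),
(0,[],[]),
(0,[],[]),
(0,[],[]),
(0,[],[]),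
(0,[],[]),
(0,[],[]),
(0,[],[]),
(0,[],[]),
(5,[5288,5290,5372,5374,5376,5378,5380,5382,5384,5386,5388],[442,502,504,506]),
(0,[],[]),
(0,[],[]),
(0,[],[]),
(0,[],[]),
(0,[],[]),
(0,[],[]),
(0,[],[]),
(0,[],[]),
(0,[],[]),
(0,[],[]),
(4,[442,502,556,532,687,685,5392,5394,5396,5398,5400,5402,5404,5406,5408,5410],[5288,5364,5371,588]),
(0,[],[]),
(0,[],[]),
(0,[],[]),
(0,[],[]),
(0,[],[]),
(0,[],[]),
(0,[],[]),
(0,[],[]),
(0,[],[]),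
(7,[442,444,30,528,558,560,3910,5414,5416,5418,5420,5422,5424,5426,5428,5430],[441,584,5327,5355]),
(0,[],[]),
(0,[],[]),
(0,[],[]),
(0,[],[]),
(0,[],[]),
(0,[],[]),
(0,[],[]),
(0,[],[]),
(0,[],[]),
(0,[],[]),
(0,[],[]),
(0,[],[]),
(7,[575,5269,5434,5436,5438,5440,5442,5444,5446,5448,5450,5452,5454,5456],[450,452,454,456,458,2564]),
(0,[],[]),
(0,[],[]),
(0,[],[]),
(0,[],[]),
(0,[],[]),
(0,[],[]),
(3,[451,575,573,571,5460,5462,5464,5466,5468,5470],[5294]),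
(0,[],[]),
(0,[],[]),
(0,[],[]),
(0,[],[]),
(0,[],[]),
(0,[],[]),
(0,[],[]),
(0,[],[]),
(0,[],[]),
(5,[451,575,5269,5267,5474,5476,5478,5480,5482,5484,5486,5488,5490],[5294,5296]),
(0,[],[]),
(0,[],[]),
(0,[],[])]
theorem ok10 : data.stepsOK st10 2500 = true := by decide +kernel
def st11 : List Step := [(0,[],[]),
(0,[],[]),
(0,[],[]),
(0,[],[]),
(0,[],[]),
(0,[],[]),
(0,[],[]),
(0,[],[]),
(0,[],[]),
(0,[],[]),
(0,[],[]),
(0,[],[]),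
(7,[5294,5473,5494,5496,5498,5500,5502,5504,5506,5508,5510,5512,5514,5516,5518,5520,5522],[452,2550,659]),
(0,[],[]),
(0,[],[]),
(0,[],[]),
(0,[],[]),
(0,[],[]),
(3,[453,5294,5296,5493,5526,5528,5530,5532,5534],[454,3798]),
(0,[],[]),
(0,[],[]),
(0,[],[]),
(0,[],[]),
(0,[],[]),
(0,[],[]),
(0,[],[]),
(0,[],[]),
(0,[],[]),
(5,[453,5294,5473,5471,5538,5540,5542,5544,5546,5548,5550,5552,5554],[454,456]),
(0,[],[]),
(0,[],[]),
(0,[],[]),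
(0,[],[]),
(0,[],[]),
(0,[],[]),
(0,[],[]),
(0,[],[]),
(0,[],[]),
(3,[457,455,2550,659,657,5566,5568,5570,5572,5574],[5557]),
(0,[],[]),
(0,[],[]),
(0,[],[]),
(0,[],[]),
(0,[],[]),
(0,[],[]),
(0,[],[]),
(0,[],[]),
(0,[],[]),
(0,[],[]),
(0,[],[]),
(0,[],[]),
(0,[],[]),
(7,[5557,5577,5578,5580,5582,5584,5586,5588,5590,5592,5594,5596,5598,5600,5602],[458,2564,5459,5457,5455]),
(0,[],[]),
(0,[],[]),
(0,[],[]),
(0,[],[]),
(0,[],[]),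
(0,[],[]),
(0,[],[]),
(0,[],[]),
(0,[],[]),
(0,[],[]),
(0,[],[]),
(0,[],[]),
(0,[],[]),
(3,[2547,553,551,5255,5626,5628,5630],[478,480,4769,3202]),
(0,[],[]),
(0,[],[]),
(0,[],[]),
(0,[],[]),
(0,[],[]),
(0,[],[]),
(0,[],[]),
(0,[],[]),
(5,[2547,553,5047,3325,5634,5636,5638,5640,5642,5644,5646,5648],[478,4776,4793]),
(0,[],[]),
(0,[],[]),
(0,[],[]),
(0,[],[]),
(3,[482,3065,3063,3061,5652,5654,5656,5658],[4769,5616,5618]),
(0,[],[]),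
(0,[],[]),
(0,[],[]),
(0,[],[]),
(5,[482,3065,3195,3193,3205,5633,5631,5629,5662,5664,5666,5668],[4769,3202,5633]),
(0,[],[]),
(0,[],[]),
(0,[],[]),
(0,[],[]),
(0,[],[]),
(0,[],[]),
(0,[],[]),
(0,[],[]),
(0,[],[]),
(4,[504,506,508,5674,5676,5678,5680,5682,5684,5686,5688],[503,444,30,33,528,530,532,534,536]),
(0,[],[]),
(0,[],[]),
(0,[],[]),
(0,[],[]),
(0,[],[]),
(0,[],[]),
(0,[],[]),
(0,[],[]),
(0,[],[]),
(0,[],[]),
(0,[],[]),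
(7,[504,607,605,2569,512,5692,5694,5696,5698,5700,5702,5704,5706,5708,5710,5712],[556,531,558,576]),
(0,[],[]),
(0,[],[]),
(0,[],[]),
(0,[],[]),
(0,[],[]),
(0,[],[]),
(3,[507,505,556,532,534,5718,5720,5722,5724,5726],[5391]),
(0,[],[]),
(0,[],[]),
(0,[],[]),
(0,[],[]),
(0,[],[]),
(0,[],[]),
(0,[],[]),
(0,[],[]),
(0,[],[]),
(0,[],[]),
(0,[],[]),
(0,[],[]),
(7,[5391,5729,5730,5732,5734,5736,5738,5740,5742,5744,5746,5748,5750,5752],[508,510,512,514,516,5300]),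
(0,[],[]),
(0,[],[]),
(0,[],[]),
(0,[],[]),
(0,[],[]),
(0,[],[]),
(3,[509,5391,5389,5387,5756,5758,5760,5762,5764,5766],[5674]),
(0,[],[]),
(0,[],[]),
(0,[],[]),
(0,[],[]),
(0,[],[]),
(0,[],[]),
(0,[],[]),
(0,[],[]),
(0,[],[]),
(0,[],[]),
(0,[],[]),
(0,[],[]),
(4,[5674,5676,5678,5770,5772,5774,5776,5778,5780,5782,5784,5786,5788,5790,5792],[509,507,607,5335,5716]),
(0,[],[]),
(0,[],[]),
(0,[],[]),
(0,[],[]),
(0,[],[]),
(0,[],[]),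
(0,[],[]),
(0,[],[]),
(0,[],[]),
(0,[],[]),
(0,[],[]),
(0,[],[]),
(0,[],[]),
(0,[],[]),
(0,[],[]),
(7,[5674,5769,5796,5798,5800,5802,5804,5806,5808,5810,5812,5814,5816,5818,5820,5822,5824],[510,2568,603]),
(9,[16,79,149,341,339,1323,1455,1453,1451],[15,3,1,23,24,34,281,497,383,500,3914,3916,5256,5622,5624]),
(1,[5829],[]),
(1,[5831,5625],[]),
(6,[528,530,557,504,607,5335,5716,5795],[33,31,29,387,385,496,279,791,414,1995,2327,2173,2032,3901,5316]),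
(9,[4372,1524,1526,4330,1927],[103,101,99,97,4477,1568,4561,2653,1464,2648,4976,380,500,476,478,480,4769,5616,5672]),
(1,[5837],[]),
(1,[5839,5673],[]),
(9,[176,178,209,487,485,483,481,479,477,3914,5260,5620],[322,933,931,929,2350,1440,1442,1444,1446,1448,5832]),
(2,[514,516,5300,5302],[5692,5694]),
(1,[5845],[]),
(1,[5847,5695],[]),
(2,[687,685,5392],[534,536,5691]),
(1,[5851],[]),
(1,[5853,5690],[]),
(2,[576,5715,5713],[560,3910,3912]),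
(1,[5856],[]),
(1,[5859,5712],[]),
(2,[590,592,5356],[5413,5411]),
(2,[596,598,600,5827,5825,5823],[]),
(1,[5864],[]),
(1,[5867,5822],[]),
(2,[652,654,656,5525,5523,5521],[]),
(1,[5870],[]),
(1,[5873,5520],[]),
(6,[5874,5522,5524,658,2551,454,3798,4103,954,5459,5558,5608],[651,4128,922,924,926,928,930,932,324,3053,5106,5134]),
(1,[5876],[]),
(1,[5879,5609],[]),
(1,[2690,5880],[]),
(1,[5883],[]),
(1,[5885,5559],[]),
(3,[707,705,2578,825,823,5148,5150],[2604,1124,865,863]),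
(2,[2686,2688,5886,5457,5455,5605],[]),
(1,[5890],[]),
(1,[5893,5604],[]),
(2,[3989,4071,4069],[3920,5099,5165]),
(1,[5897],[]),
(1,[5899,5163],[]),
(1,[4066,5900],[]),
(1,[5903],[]),
(1,[5905,5161],[]),
(2,[5835,5794,5717,5333],[5318]),
(0,[],[]),
(0,[],[]),
(3,[521,519,5300,5755,5910,5912],[2549,744,639,637,635]),
(0,[],[]),
(0,[],[]),
(0,[],[]),
(0,[],[]),
(0,[],[]),
(0,[],[]),
(0,[],[]),
(0,[],[]),
(5,[530,532,534,5718,5916,5918,5920,5922,5924,5926,5928,5930],[558,576,578]),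
(0,[],[]),
(0,[],[]),
(0,[],[]),
(0,[],[]),
(0,[],[]),
(0,[],[]),
(0,[],[]),
(0,[],[]),
(0,[],[]),
(0,[],[]),
(5,[536,538,540,5936,5938,5940,5942,5944,5946,5948,5950,5952],[5718,5720,5722]),
(0,[],[]),
(0,[],[]),
(0,[],[]),
(0,[],[]),
(0,[],[]),
(3,[5855,5394,5396,5956,5958,5960,5962,5964],[538,540,5936]),
(0,[],[]),
(2,[5934,5968],[540,542,544]),
(0,[],[]),
(0,[],[]),
(0,[],[]),
(0,[],[]),
(0,[],[]),
(0,[],[]),
(0,[],[]),
(0,[],[]),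
(0,[],[]),
(0,[],[]),
(0,[],[]),
(5,[542,5972,5974,5976,5978,5980,5982,5984,5986,5988,5990,5992],[5936,5967,5965]),
(0,[],[]),
(3,[544,546,5045,3330,3332,1709,1707,5996],[5972,5974,5976])]
theorem ok11 : data.stepsOK st11 2750 = true := by decide +kernel
end

end MemV
end HN
end H23
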