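import Mathlib
import Cfsg.Agent.H23.HN.MemV.Data

/-!
A derivation that a word fixes the first coset (generated data).
-/

set_option autoImplicit false
set_option maxRecDepth 100000
set_option linter.all false
set_option Elab.async false

namespace H23
namespace HN
namespace MemV

open H93.CosetI

noncomputable section

def st12 : List Step := [(0,[],[]),
(0,[],[]),
(0,[],[]),
(0,[],[]),
(0,[],[]),
(0,[],[]),
(0,[],[]),
(0,[],[]),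
(0,[],[]),
(0,[],[]),
(0,[],[]),
(0,[],[]),
(0,[],[]),
(0,[],[]),
(0,[],[]),
(0,[],[]),
(0,[],[]),
(7,[562,564,6006,6008,6010,6012,6014,6016,6018,6020,6022,6024,6026,6028,6030,6032],[561,576,578,5933]),
(0,[],[]),
(0,[],[]),
(2,[5933,6035,6033],[580,6036,6038]),
(1,[6041],[]),
(1,[6043,6039],[]),
(0,[],[]),
(0,[],[]),
(0,[],[]),
(0,[],[]),
(0,[],[]),
(0,[],[]),
(0,[],[]),
(0,[],[]),
(0,[],[]),
(0,[],[]),
(0,[],[]),
(0,[],[]),
(4,[5327,5355,5433,6046,6048,6050,6052,6054,6056,6058,6060,6062,6064,6066,6068],[585,440,5288,5290,5372]),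
(0,[],[]),
(0,[],[]),
(0,[],[]),
(0,[],[]),
(0,[],[]),
(0,[],[]),
(0,[],[]),
(0,[],[]),
(0,[],[]),
(0,[],[]),
(0,[],[]),
(0,[],[]),
(0,[],[]),
(5,[587,5327,5325,5323,6080,6082,6084,6086,6088,6090,6092,6094,6096],[588,590]),
(0,[],[]),
(0,[],[]),
(0,[],[]),
(0,[],[]),
(0,[],[]),
(0,[],[]),
(0,[],[]),
(0,[],[]),
(0,[],[]),
(0,[],[]),
(0,[],[]),
(7,[588,5413,5411,5863,5358,6100,6102,6104,6106,6108,6110,6112,6114,6116,6118,6120],[5370,5365,5290,5292]),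
(0,[],[]),
(0,[],[]),
(0,[],[]),
(0,[],[]),
(0,[],[]),
(3,[591,589,5370,5366,5368,6124,6126,6128,6130,6132],[6099]),
(0,[],[]),
(0,[],[]),
(0,[],[]),
(0,[],[]),
(0,[],[]),
(0,[],[]),
(0,[],[]),
(0,[],[]),
(0,[],[]),
(0,[],[]),
(0,[],[]),
(0,[],[]),
(0,[],[]),
(0,[],[]),
(7,[6099,6135,6138,6140,6142,6144,6146,6148,6150,6152,6154,6156,6158,6160,6162],[592,5356,5358,5360,5362]),
(0,[],[]),
(0,[],[]),
(0,[],[]),
(0,[],[]),
(0,[],[]),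
(3,[593,6099,6097,6095,6166,6168,6170,6172,6174],[594,5868]),
(0,[],[]),
(0,[],[]),
(0,[],[]),
(0,[],[]),
(0,[],[]),
(0,[],[]),
(0,[],[]),
(0,[],[]),
(0,[],[]),
(5,[5868,6177,6178,6180,6182,6184,6186,6188,6190,6192,6194],[595,5356,5358,5360]),
(9,[600,602,604,5335,5333,5908,5319,5317,3899,3897,3895,3893,3891,3889,3887],[599,597,595,593,6099,6135,6138,6140,6142]),
(1,[6199],[]),
(1,[6201,6143],[]),
(1,[6201,6144],[]),
(1,[3887,6204],[]),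
(1,[6207],[]),
(1,[6209,6146],[]),
(6,[624,5033,5034,3780,4116,6202],[623,276,278,280,35,26,28,445,443,441,584,586,588,590,6099,6097,6136]),
(0,[],[]),
(0,[],[]),
(0,[],[]),
(0,[],[]),
(0,[],[]),
(3,[5033,3393,6214,6216,6218,6220,6222],[626,628,630,5198]),
(0,[],[]),
(0,[],[]),
(0,[],[]),
(0,[],[]),
(0,[],[]),
(0,[],[]),
(0,[],[]),
(0,[],[]),
(0,[],[]),
(0,[],[]),
(0,[],[]),
(7,[626,628,6226,6228,6230,6232,6234,6236,6238,6240,6242,6244,6246],[625,5018,3400,714,716,2390,2940]),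
(0,[],[]),
(2,[5198,5200],[632,5915,6250]),
(0,[],[]),
(0,[],[]),
(0,[],[]),
(0,[],[]),
(0,[],[]),
(0,[],[]),
(5,[2967,3470,4190,6254,6256,6258,6260,6262,6264],[645,2358,719,2390,2940,6249]),
(0,[],[]),
(0,[],[]),
(0,[],[]),
(0,[],[]),
(0,[],[]),
(0,[],[]),
(0,[],[]),
(0,[],[]),
(0,[],[]),
(0,[],[]),
(0,[],[]),
(0,[],[]),
(9,[14,50,52,171,169,844,2328,850,3042],[3,23,24,34,36,38,664,666,668,670,3366,6268,6270,6272,6274]),
(1,[6293],[]),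
(1,[6295,6276],[]),
(1,[3042,6296],[]),
(1,[6299],[]),
(1,[6301,6278],[]),
(1,[853,6302],[]),
(1,[6305],[]),
(1,[6307,6280],[]),
(6,[310,846,848,850,852,6308,6282,6284,6286,6288,6290],[170,54,256,258,260,262,264,266,3663,3661,3720,5070,3750]),
(1,[6310],[]),
(1,[6313,6291],[]),
(6,[2407,412,790,278,497,383,500,476,2547,553,5047,3325,5634,6000],[271,3557,4197,4097,739,737,735,733,3316]),
(6,[5692,5849,5303,5755,5910,5912,6250,6253,5201,6225,6223,6221],[513,2568,603,5827,5825,5869,595,5356,5358,5360,5362,6165]),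
(1,[6318],[]),
(1,[6321,6220],[]),
(1,[6162,6322],[]),
(1,[6321,6219],[]),
(1,[6325],[]),
(1,[6329,6222],[]),
(1,[6160,6330],[]),
(1,[6333],[]),
(1,[6335,6224],[]),
(2,[3782,3784],[4116,3886,6210]),
(2,[5292,6123,6121],[5372,6071]),
(2,[5324,5355,5433,5431],[6072,6074]),
(1,[6343],[]),
(1,[6345,6076],[]),
(1,[5428,6346],[]),
(1,[6345,6075],[]),
(1,[6349],[]),
(1,[6353,6078],[]),
(2,[5360,5362,6165,6326],[6100,6102]),
(1,[6356],[]),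
(1,[6359,6217],[]),
(1,[6105,6360],[]),
(1,[6363],[]),
(1,[6365,6215],[]),
(1,[6107,6366],[]),
(1,[6368],[]),
(1,[6371,6107],[]),
(1,[6371,6108],[]),
(1,[3390,6374],[]),
(1,[6377],[]),
(1,[6379,6110],[]),
(1,[3388,6380],[]),
(1,[6383],[]),
(1,[6385,6112],[]),
(1,[3386,6386],[]),
(1,[6389],[]),
(1,[6391,6114],[]),
(1,[3384,6392],[]),
(1,[6395],[]),
(1,[6397,6116],[]),
(1,[3382,6398],[]),
(1,[6401],[]),
(1,[6403,6118],[]),
(9,[5373,5291,5289,442,502,556,531,558,576,578,5933,6035,6033,6031,6029],[6071,6341,6405,3381,3379,2976,2978,3377,3375]),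
(1,[6406],[]),
(1,[6409,6028],[]),
(1,[3431,6410],[]),
(1,[6413],[]),
(1,[6415,6030],[]),
(1,[3433,6416],[]),
(1,[6419],[]),
(1,[6421,6044],[]),
(0,[],[]),
(0,[],[]),
(0,[],[]),
(0,[],[]),
(0,[],[]),
(0,[],[]),
(0,[],[]),
(0,[],[]),
(0,[],[]),
(5,[701,2982,2984,2986,6424,6426,6428,6430,6432,6434,6436,6438,6440],[3023,3021]),
(0,[],[]),
(0,[],[]),
(0,[],[]),
(9,[708,710,712,3401,5006,3778,5035,3393,6372,6105,6103,6101,5360,6197,6195,6193,6191],[707,2582,5258,6444,6446,6448]),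
(0,[],[]),
(0,[],[]),
(0,[],[]),
(3,[709,2604,2598,1006,1008,6452,6454,6456],[710,2592,5222]),
(0,[],[]),
(0,[],[]),
(0,[],[]),
(0,[],[]),
(0,[],[]),
(0,[],[]),
(4,[3401,5006,3778,3780,3782,3784,6338,6148,6464,6466,6468,6470],[713,2592,1642,2940,2798,2708,2710,2712]),
(0,[],[]),
(0,[],[]),
(0,[],[]),
(0,[],[]),
(0,[],[]),
(0,[],[]),
(0,[],[]),
(0,[],[]),
(0,[],[]),
(0,[],[]),
(0,[],[]),
(0,[],[]),
(0,[],[])]
theorem ok12 : data.stepsOK st12 3000 = true := by decide +kernel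
def st13 : List Step := [(0,[],[]),
(0,[],[]),
(0,[],[]),
(0,[],[]),
(7,[5014,5172,6482,6484,6486,6488,6490,6492,6494,6496,6498,6500,6502,6504,6506],[716,2390,2940,6249,6247]),
(0,[],[]),
(0,[],[]),
(0,[],[]),
(0,[],[]),
(0,[],[]),
(0,[],[]),
(0,[],[]),
(5,[3006,3008,3010,5054,3526,6510,6512,6514,6516,6518,6520,6522],[726,3024,3026]),
(0,[],[]),
(2,[3024,6526],[728,730,732]),
(0,[],[]),
(0,[],[]),
(0,[],[]),
(0,[],[]),
(0,[],[]),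
(0,[],[]),
(0,[],[]),
(0,[],[]),
(0,[],[]),
(0,[],[]),
(0,[],[]),
(0,[],[]),
(0,[],[]),
(0,[],[]),
(7,[3038,3040,6530,6532,6534,6536,6538,6540,6542,6544,6546,6548,6550,6552,6554,6556],[729,3024,3026,6525]),
(0,[],[]),
(0,[],[]),
(0,[],[]),
(0,[],[]),
(0,[],[]),
(0,[],[]),
(0,[],[]),
(0,[],[]),
(0,[],[]),
(0,[],[]),
(0,[],[]),
(4,[3316,6317,6001,5636,6560,6562,6564,6566,6568,6570,6572,6574,6576,6578,6580],[732,6529,6527,3026,3028]),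
(0,[],[]),
(0,[],[]),
(0,[],[]),
(0,[],[]),
(0,[],[]),
(0,[],[]),
(3,[821,3104,5147,5145,6584,6586,6588,6590,6592,6594],[5148]),
(0,[],[]),
(5,[821,3104,3106,2989,827,825,823,5148,6597,6595,6598],[5148,5150,5888,861]),
(0,[],[]),
(0,[],[]),
(0,[],[]),
(0,[],[]),
(0,[],[]),
(0,[],[]),
(0,[],[]),
(0,[],[]),
(3,[827,825,5286,5102,5104,6612,6614,6616],[2988,2990,2992]),
(0,[],[]),
(0,[],[]),
(2,[6620,6622],[858,860,862,6460]),
(1,[6624],[]),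
(1,[6627,6623],[]),
(0,[],[]),
(0,[],[]),
(0,[],[]),
(0,[],[]),
(0,[],[]),
(0,[],[]),
(0,[],[]),
(0,[],[]),
(0,[],[]),
(0,[],[]),
(0,[],[]),
(0,[],[]),
(0,[],[]),
(4,[1257,1255,6632,6634,6636,6638,6640,6642,6644,6646,6648,6650,6652,6654],[868,1038,1004,1006,1008,1010]),
(0,[],[]),
(0,[],[]),
(0,[],[]),
(0,[],[]),
(0,[],[]),
(0,[],[]),
(0,[],[]),
(7,[1257,3962,6658,6660,6662,6664,6666,6668,6670],[867,1125,2605,708,2621,2649,1465,2652,4560,1570,1572]),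
(6,[842,290,1035,871,1038,1258,3972,6630],[59,838,469,965,963,2561,461,2564,5459,5457,5455,5895,2685,5040,2751]),
(3,[950,952,4102,5537,5560,5562],[5069,3597,5060,6462,6474]),
(2,[6632],[1254,3962,6658,6660]),
(2,[2799,6249,6247,6509],[2708]),
(2,[6525,6559,6557],[3028,6583]),
(2,[4268,3761,3759],[3040,6530,6532]),
(1,[6685],[]),
(1,[6687,6534],[]),
(1,[3756,6688],[]),
(1,[6691],[]),
(1,[6693,6536],[]),
(2,[6314],[3752,3754,6694,6538]),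
(2,[5150,5152,5154],[6597,6602,6604]),
(1,[6699],[]),
(1,[6701,6606],[]),
(1,[5157,6702],[]),
(1,[6705],[]),
(1,[6707,6608],[]),
(2,[5158,5907,4065,4063],[6708,6610]),
(1,[6711],[]),
(1,[6713,6611],[]),
(2,[6676,6476,6478,6480],[5564]),
(2,[6464,6466],[6150,6152,6154]),
(0,[],[]),
(0,[],[]),
(0,[],[]),
(0,[],[]),
(0,[],[]),
(0,[],[]),
(0,[],[]),
(0,[],[]),
(0,[],[]),
(7,[3643,3706,3797,6724,6726,6728,6730,6732,6734,6736],[2405,266,3663,3661,3720,5070,3750,6314,6696,6540]),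
(0,[],[]),
(0,[],[]),
(0,[],[]),
(0,[],[]),
(0,[],[]),
(0,[],[]),
(5,[3530,6720,6722,6740,6742,6744,6746,6748,6750],[968,970,972,3934,3936,3938]),
(0,[],[]),
(0,[],[]),
(0,[],[]),
(0,[],[]),
(0,[],[]),
(0,[],[]),
(3,[3617,3615,6754,6756,6758,6760,6762,6764],[980,982,984]),
(0,[],[]),
(0,[],[]),
(0,[],[]),
(0,[],[]),
(0,[],[]),
(0,[],[]),
(0,[],[]),
(0,[],[]),
(3,[6768,6770,6772,6774,6776,6778,6780,6782],[984,986,988]),
(0,[],[]),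
(0,[],[]),
(0,[],[]),
(0,[],[]),
(0,[],[]),
(0,[],[]),
(0,[],[]),
(2,[6767,6786],[986,6796,6798]),
(0,[],[]),
(0,[],[]),
(0,[],[]),
(0,[],[]),
(0,[],[]),
(0,[],[]),
(0,[],[]),
(0,[],[]),
(0,[],[]),
(0,[],[]),
(0,[],[]),
(0,[],[]),
(0,[],[]),
(0,[],[]),
(4,[988,6785,6802,6804,6806,6808,6810,6812,6814,6816,6818,6820,6822,6824,6826,6828],[6796,6798,6801,6788]),
(0,[],[]),
(0,[],[]),
(0,[],[]),
(0,[],[]),
(0,[],[]),
(0,[],[]),
(7,[1258,3972,6630,6674,2750,5041,2683,6832,6834,6836,6838,6840,6842],[1039,869,1257,1255,6632,6678,6662]),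
(0,[],[]),
(0,[],[]),
(0,[],[]),
(0,[],[]),
(0,[],[]),
(0,[],[]),
(3,[1185,1183,6846,6848,6850,6852,6854,6856],[1042,1044,1046]),
(0,[],[]),
(0,[],[]),
(0,[],[]),
(0,[],[]),
(0,[],[]),
(0,[],[]),
(0,[],[]),
(0,[],[]),
(0,[],[]),
(0,[],[]),
(0,[],[]),
(0,[],[]),
(0,[],[]),
(0,[],[]),
(4,[1042,3929,6860,6862,6864,6866,6868,6870,6872,6874,6876,6878,6880,6882,6884,6886],[1185,3944,4295,3936]),
(0,[],[]),
(0,[],[]),
(0,[],[]),
(2,[3929,6860],[1044,6890,6892]),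
(0,[],[]),
(0,[],[]),
(0,[],[]),
(0,[],[]),
(0,[],[]),
(0,[],[]),
(0,[],[]),
(0,[],[]),
(0,[],[]),
(0,[],[]),
(0,[],[]),
(0,[],[]),
(0,[],[]),
(0,[],[]),
(4,[1046,6859,6898,6900,6902,6904,6906,6908,6910,6912,6914,6916,6918,6920,6922,6924],[6890,6892,6897,6862]),
(0,[],[]),
(0,[],[]),
(5,[1066,1068,1098,4841,3233,3231,5133,5131,5129,6928,6930],[1065,5606,5610,5612]),
(0,[],[]),
(0,[],[]),
(0,[],[]),
(0,[],[]),
(0,[],[]),
(0,[],[]),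
(3,[1140,1142,6934,6936,6938,6940,6942,6944],[1068,1098,4841]),
(0,[],[]),
(0,[],[]),
(0,[],[]),
(0,[],[]),
(0,[],[]),
(0,[],[]),
(0,[],[]),
(0,[],[]),
(0,[],[]),
(0,[],[]),
(0,[],[]),
(0,[],[]),
(0,[],[]),
(0,[],[]),
(7,[1074,4848,6948,6950,6952,6954,6956,6958,6960,6962,6964,6966,6968,6970,6972,6974],[2624,1101,4841,6947]),
(9,[873,871,869,1257,1255,6632,6678,6662,6845],[63,61,59,57,256,887,934,2401,264,2404,3643,3706,3797,6724,6726]),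
(1,[6978],[]),
(1,[6981,6843],[]),
(1,[6981,6844],[]),
(1,[6729,6984],[]),
(1,[6986],[]),
(1,[6989,6730],[]),
(1,[6665,6990],[]),
(1,[6993],[]),
(1,[6995,6732],[]),
(6,[946,948,950,952,954,5459,5887,2689,2687,2685,2683,6832,6834,6836,6838,6840,6983,6727],[945,943,3643,3641,5315])]
theorem ok13 : data.stepsOK st13 3250 = true := by decide +kernel
def st14 : List Step := [(4,[4322,2961,2959,2957,2955,2953,4082,3947,3945,1184,1042,3929,6860,6896,6894],[1533,4312,3448,3445,3472]),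
(7,[3026,3028,6583,6683,6555],[6526,6528,734,5048,4219,3361,4196,3700,943,3643,3641,5315,6999,6726,6982]),
(2,[3232,6947,6977,6975],[4896,4005]),
(1,[7004],[]),
(1,[7007,6974],[]),
(6,[3442,3472,7001,6895,6897,6862,6927,6925],[3441,3439,3437,3435,6422,6037,583,581,579,5715,5861,3913,5414,6002,6004]),
(2,[3938,3940,3942],[6889,6887]),
(2,[7011,6924,6926,6864,6866,6868],[]),
(1,[7014],[]),
(1,[7017,6870],[]),
(1,[6004,7018],[]),
(1,[7021],[]),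
(1,[7023,6872],[]),
(2,[6739,6737,6735],[6542,6544,6546]),
(1,[7026],[]),
(1,[7029,6997],[]),
(1,[6549,7030],[]),
(1,[7033],[]),
(1,[7035,6665],[]),
(1,[7035,6666],[]),
(1,[6551,7038],[]),
(1,[7041],[]),
(1,[7043,6668],[]),
(2,[6790,6792,6794],[6831,6829]),
(2,[6874],[7025,6003,5416,5418,5420]),
(1,[7048],[]),
(1,[7051,6876],[]),
(1,[5423,7052],[]),
(1,[7055],[]),
(1,[7057,6878],[]),
(2,[6880,6882],[7059,5424,5426,6354]),
(1,[7060],[]),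
(1,[7063,6884],[]),
(0,[],[]),
(3,[2948,2950,4082,3947,4295,3936,3938,6753],[5197,5195,7066]),
(9,[7012,7065,6355,5428,6350,6073,5324,5326,586,588,590,592,5356,5358,5360,6197,6195],[3943,3941,6753,7068,7067,5193,5191]),
(1,[7070],[]),
(1,[7073,6193],[]),
(1,[5188,7074],[]),
(1,[7077],[]),
(1,[7079,6191],[]),
(2,[5184,5186,7080,6450,6449],[]),
(3,[7083,6447,6445,5259,1467,1465,2652,4951,2762],[5183,5237,2719]),
(1,[7084],[]),
(1,[7087,2763],[]),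
(1,[2716,7088],[]),
(1,[7091],[]),
(1,[7093,4950],[]),
(1,[2714,7094],[]),
(1,[7096],[]),
(1,[7099,2713],[]),
(1,[4561,7100],[]),
(1,[7099,6473],[]),
(1,[2652,7104],[]),
(1,[7103],[]),
(1,[7109,2711],[]),
(1,[1571,7110],[]),
(1,[7107],[]),
(1,[7115,6471],[]),
(1,[1462,7116],[]),
(1,[7113],[]),
(1,[7121,2709],[]),
(1,[1573,7122],[]),
(1,[7121,6681],[]),
(1,[4594,7126],[]),
(1,[7119],[]),
(1,[7131,6469],[]),
(1,[1603,7132],[]),
(1,[7125],[]),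
(1,[7137,2707],[]),
(1,[4590,7138],[]),
(1,[7137,2799],[]),
(1,[6672,7142],[]),
(1,[7129],[]),
(1,[7147,6508],[]),
(1,[7135],[]),
(1,[7151,6718],[]),
(1,[1605,7152],[]),
(1,[7151,6467],[]),
(1,[4900,7156],[]),
(1,[7141],[]),
(1,[7161,4886],[]),
(1,[6672,7162],[]),
(1,[7144],[]),
(1,[7167,6671],[]),
(1,[6248,7168],[]),
(1,[7155],[]),
(1,[7173,6156],[]),
(1,[4942,7174],[]),
(1,[7159],[]),
(1,[7179,6465],[]),
(1,[1739,7180],[]),
(1,[7167,7164],[]),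
(1,[7185,2941],[]),
(1,[4823,7186],[]),
(1,[7185,6249],[]),
(1,[1665,7190],[]),
(1,[7171],[]),
(1,[7195,7045],[]),
(1,[6266,7196],[]),
(1,[7177],[]),
(1,[7201,6158],[]),
(1,[5233,7202],[]),
(1,[7183],[]),
(1,[7207,6149],[]),
(1,[1741,7208],[]),
(1,[7189],[]),
(1,[7213,1643],[]),
(1,[132,7214],[]),
(1,[7213,2391],[]),
(1,[135,7218],[]),
(1,[7193],[]),
(1,[7223,6267],[]),
(1,[1667,7224],[]),
(1,[7223,6247],[]),
(1,[4932,7228],[]),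
(1,[7199],[]),
(1,[7233,6551],[]),
(1,[6264,7234],[]),
(1,[7233,6552],[]),
(1,[7205],[]),
(1,[7241,6336],[]),
(1,[5174,7242],[]),
(1,[7211],[]),
(1,[7247,6211],[]),
(1,[7217],[]),
(1,[7251,5222],[]),
(1,[4746,7252],[]),
(1,[7251,2593],[]),
(1,[130,7256],[]),
(1,[7221],[]),
(1,[7261,718],[]),
(1,[137,7262],[]),
(1,[7261,717],[]),
(1,[2696,7266],[]),
(1,[7227],[]),
(1,[7271,6265],[]),
(1,[4956,7272],[]),
(1,[7271,7238],[]),
(1,[1669,7276],[]),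
(1,[7231],[]),
(1,[7281,7149],[]),
(1,[7237],[]),
(1,[7285,7036],[]),
(1,[7245],[]),
(1,[7289,5200],[]),
(1,[2863,7290],[]),
(1,[7289,5199],[]),
(1,[2860,7294],[]),
(1,[7255],[]),
(1,[7299,6459],[]),
(1,[4546,7300],[]),
(1,[7259],[]),
(1,[7305,711],[]),
(1,[128,7306],[]),
(1,[7305,712],[]),
(1,[2219,7310],[]),
(1,[7265],[]),
(1,[7315,720],[]),
(1,[2787,7316],[]),
(1,[7315,2359],[]),
(1,[139,7320],[]),
(1,[7268],[]),
(1,[7325,2676],[]),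
(1,[5015,7326],[]),
(1,[7275],[]),
(1,[7331,7286],[]),
(1,[4955,7332],[]),
(1,[7279],[]),
(1,[7337,6554],[]),
(1,[1671,7338],[]),
(1,[7337,7002],[]),
(1,[1735,7342],[]),
(1,[7293],[]),
(1,[7347,5202],[]),
(1,[377,7348],[]),
(1,[7347,6252],[]),
(1,[374,7352],[]),
(1,[7296],[]),
(1,[7357,2860],[]),
(1,[7357,2897],[]),
(1,[633,7360],[]),
(1,[7303],[]),
(1,[7365,6457],[]),
(1,[1603,7366],[]),
(1,[7309],[]),
(1,[7371,2621],[]),
(1,[126,7372],[]),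
(1,[7371,709],[]),
(1,[2165,7376],[]),
(1,[7312],[]),
(1,[7381,2220],[]),
(1,[3400,7382],[]),
(1,[7318],[]),
(1,[7387,2921],[]),
(1,[7387,2893],[]),
(1,[723,7390],[]),
(1,[7387,2787],[]),
(1,[7323],[]),
(1,[7397,643],[]),
(1,[141,7398],[]),
(1,[7328],[]),
(1,[7403,3845],[]),
(1,[2679,7404],[]),
(1,[7335],[]),
(1,[7409,6663],[]),
(1,[3181,7410],[]),
(1,[7341],[]),
(1,[7415,6682],[]),
(1,[1486,7416],[]),
(1,[7345],[]),
(1,[7421,6841],[]),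
(1,[1737,7422],[]),
(1,[7351],[]),
(1,[7427,5204],[]),
(1,[554,7428],[]),
(1,[7355],[]),
(1,[7433,6251],[]),
(1,[372,7434],[]),
(1,[7362],[]),
(1,[7439,634],[]),
(1,[368,7440],[]),
(1,[7439,633],[]),
(1,[7369],[]),
(1,[7447,6455],[]),
(1,[4900,7448],[]),
(1,[7375],[]),
(1,[7453,4976],[]),
(1,[4604,7454],[]),
(1,[7453,2649],[]),
(1,[124,7458],[]),
(1,[7379],[]),
(1,[7463,2604],[]),
(1,[204,7464],[]),
(1,[7463,707],[]),
(1,[207,7468],[]),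
(1,[7384],[]),
(1,[7473,5006],[]),
(1,[2672,7474],[]),
(1,[7473,5019],[]),
(1,[2223,7478],[]),
(1,[7393],[]),
(1,[7483,368],[]),
(1,[240,7484],[]),
(1,[7483,367],[]),
(1,[243,7488],[]),
(1,[7401],[]),
(1,[7493,246],[]),
(1,[143,7494],[]),
(1,[7407],[])]
theorem ok14 : data.stepsOK st14 3500 = true := by decide +kernel
def st15 : List Step := [(1,[7499,6462],[]),
(1,[2681,7500],[]),
(1,[7413],[]),
(1,[7505,6661],[]),
(1,[3223,7506],[]),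
(1,[7505,6679],[]),
(1,[3222,7510],[]),
(1,[7419],[]),
(1,[7515,6582],[]),
(1,[101,7516],[]),
(1,[7425],[]),
(1,[7521,6839],[]),
(1,[4901,7522],[]),
(1,[7431],[]),
(1,[7527,5206],[]),
(1,[2547,7528],[]),
(1,[7437],[]),
(1,[7533,5913],[]),
(1,[3364,7534],[]),
(1,[7443,7482],[]),
(1,[7539,636],[]),
(1,[722,7540],[]),
(1,[7451],[]),
(1,[7545,6453],[]),
(1,[1736,7546],[]),
(1,[7457],[]),
(1,[7551,379],[]),
(1,[124,7552],[]),
(1,[7551,380],[]),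
(1,[127,7556],[]),
(1,[7461],[]),
(1,[7561,1465],[]),
(1,[122,7562],[]),
(1,[7467],[]),
(1,[7567,2598],[]),
(1,[202,7568],[]),
(1,[7567,1124],[]),
(1,[4358,7572],[]),
(1,[7471],[]),
(1,[7577,705],[]),
(1,[486,7578],[]),
(1,[7477],[]),
(1,[7583,3778],[]),
(1,[2784,7584],[]),
(1,[7480],[]),
(1,[7589,4803,7588],[]),
(1,[622,7590],[]),
(1,[7589,2223],[]),
(1,[7487],[]),
(1,[7597,7444],[]),
(1,[689,7598],[]),
(1,[7597,370],[]),
(1,[238,7602],[]),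
(1,[7491],[]),
(1,[7607,1387],[]),
(1,[7497],[]),
(1,[7611,248],[]),
(1,[1375,7612],[]),
(1,[7611,2368],[]),
(1,[145,7616],[]),
(1,[7503],[]),
(1,[7621,6474],[]),
(1,[6833,7622],[]),
(1,[7509],[]),
(1,[7627,6659],[]),
(1,[3223,7628],[]),
(1,[7513],[]),
(1,[7633,6633],[]),
(1,[3222,7634],[]),
(1,[7519],[]),
(1,[7639,3030],[]),
(1,[1690,7640],[]),
(1,[7639,3029],[]),
(1,[103,7644],[]),
(1,[7525],[]),
(1,[7649,6837],[]),
(1,[1605,7650],[]),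
(1,[7531],[]),
(1,[7655,5208],[]),
(1,[479,7656],[]),
(1,[7537],[]),
(1,[7661,5911],[]),
(1,[3362,7662],[]),
(1,[7542],[]),
(1,[7667,7389,7666],[]),
(1,[639,7668],[]),
(1,[7667,722],[]),
(1,[7667,7394],[]),
(1,[3363,7674],[]),
(1,[7548],[]),
(1,[7679,1736],[]),
(1,[7679,1857],[]),
(1,[1011,7682],[]),
(1,[7555],[]),
(1,[7687,377],[]),
(1,[122,7688],[]),
(1,[7687,555],[]),
(1,[180,7692],[]),
(1,[7559],[]),
(1,[7697,500],[]),
(1,[2165,7698],[]),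
(1,[7565],[]),
(1,[7703,2652],[]),
(1,[120,7704],[]),
(1,[7703,1463],[]),
(1,[150,7708],[]),
(1,[7571],[]),
(1,[7713,1005],[]),
(1,[1486,7714],[]),
(1,[7574],[]),
(1,[7719,1524],[]),
(1,[864,7720],[]),
(1,[7719,4373],[]),
(1,[867,7724],[]),
(1,[7581],[]),
(1,[7729,2578],[]),
(1,[484,7730],[]),
(1,[7729,703],[]),
(1,[4672,7734],[]),
(1,[7587],[]),
(1,[7739,3780],[]),
(1,[7739,5035],[]),
(1,[2782,7742],[]),
(1,[7593],[]),
(1,[7747,7594],[]),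
(1,[277,7748],[]),
(1,[7600],[]),
(1,[7753,667],[]),
(1,[7359,7754],[]),
(1,[7605],[]),
(1,[7759,3365],[]),
(1,[426,7760],[]),
(1,[7759,372],[]),
(1,[236,7764],[]),
(1,[7615],[]),
(1,[7769,1539],[]),
(1,[72,7770],[]),
(1,[7769,250],[]),
(1,[75,7774],[]),
(1,[7619],[]),
(1,[7779,1656],[]),
(1,[147,7780],[]),
(1,[7624],[]),
(1,[7785,6834],[]),
(1,[6676,7786],[]),
(1,[7631],[]),
(1,[7791,3963],[]),
(1,[3223,7792],[]),
(1,[7636],[]),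
(1,[7797,3181],[]),
(1,[1252,7798],[]),
(1,[7643],[]),
(1,[7803,3032],[]),
(1,[1688,7804],[]),
(1,[7647],[]),
(1,[7809,3027],[]),
(1,[105,7810],[]),
(1,[7653],[]),
(1,[7659],[]),
(1,[7817,5210],[]),
(1,[4777,7818],[]),
(1,[7665],[]),
(1,[7823,5754],[]),
(1,[639,7824],[]),
(1,[7670],[]),
(1,[7676],[]),
(1,[7685],[]),
(1,[7833,1855],[]),
(1,[6656,7834],[]),
(1,[7833,3178],[]),
(1,[1013,7838],[]),
(1,[7691],[]),
(1,[7843,375],[]),
(1,[120,7844],[]),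
(1,[7843,2863],[]),
(1,[150,7848],[]),
(1,[7695],[]),
(1,[7853,553],[]),
(1,[178,7854],[]),
(1,[7853,2546],[]),
(1,[208,7858],[]),
(1,[7701],[]),
(1,[7863,3914],[]),
(1,[204,7864],[]),
(1,[7707],[]),
(1,[7869,4560],[]),
(1,[11,7870],[]),
(1,[7711],[]),
(1,[7875,1602],[]),
(1,[91,7876],[]),
(1,[7717],[]),
(1,[7881,1039],[]),
(1,[101,7882],[]),
(1,[7723],[]),
(1,[7887,1526],[]),
(1,[862,7888],[]),
(1,[7887,4348],[]),
(1,[6461,7892],[]),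
(1,[7726],[]),
(1,[7897,1257],[]),
(1,[105,7898],[]),
(1,[7897,867],[]),
(1,[7733],[]),
(1,[7905,825],[]),
(1,[3064,7906],[]),
(1,[7905,826],[]),
(1,[482,7910],[]),
(1,[7736],[]),
(1,[7915,1103],[]),
(1,[3022,7916],[]),
(1,[7915,4672],[]),
(1,[7915,1104],[]),
(1,[700,7922],[]),
(1,[7745],[]),
(1,[7927,3393],[]),
(1,[2780,7928],[]),
(1,[7751],[]),
(1,[7933,2673],[]),
(1,[790,7934],[]),
(1,[7756],[]),
(1,[7939,5174],[]),
(1,[691,7940],[]),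
(1,[7762,7830],[]),
(1,[7945,426],[]),
(1,[136,7946],[]),
(1,[7945,425],[]),
(1,[139,7950],[]),
(1,[7767],[]),
(1,[7773],[]),
(1,[7957,3447],[]),
(1,[1227,7958],[]),
(1,[7957,1537],[]),
(1,[70,7962],[]),
(1,[7777],[]),
(1,[7967,1754],[]),
(1,[320,7968],[]),
(1,[7967,252],[]),
(1,[77,7972],[]),
(1,[7783],[]),
(1,[7977,1753],[]),
(1,[340,7978],[]),
(1,[7788,7814],[]),
(1,[7983,6676],[]),
(1,[1607,7984],[]),
(1,[7983,5564],[]),
(1,[1604,7988],[]),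
(1,[7795,7796],[]),
(1,[7993,1255],[]),
(1,[7801],[]),
(1,[7807],[])]
theorem ok15 : data.stepsOK st15 3750 = true := by decide +kernel
def st16 : List Step := [(1,[7999,3034],[]),
(1,[1686,8000],[]),
(1,[7813],[]),
(1,[8005,6526],[]),
(1,[107,8006],[]),
(1,[8005,3025],[]),
(1,[1810,8010],[]),
(1,[7821],[]),
(1,[8015,5212],[]),
(1,[7827,7828],[]),
(1,[8019,5302],[]),
(1,[7673,8020],[]),
(1,[7836],[]),
(1,[8025,6656],[]),
(1,[7997,7841],[]),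
(1,[8029,1252],[]),
(1,[1015,8030],[]),
(1,[8029,1251],[]),
(1,[1012,8034],[]),
(1,[7955,7847],[]),
(1,[8039,236],[]),
(1,[11,8040],[]),
(1,[8039,38],[]),
(1,[121,8044],[]),
(1,[7939,7851],[]),
(1,[8049,690],[]),
(1,[91,8050],[]),
(1,[7857],[]),
(1,[8055,551],[]),
(1,[1024,8056],[]),
(1,[8055,5047],[]),
(1,[176,8060],[]),
(1,[7861],[]),
(1,[8065,478],[]),
(1,[486,8066],[]),
(1,[7867],[]),
(1,[8071,5260],[]),
(1,[202,8072],[]),
(1,[7873],[]),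
(1,[8077,1570],[]),
(1,[48,8078],[]),
(1,[7879],[]),
(1,[8083,4901],[]),
(1,[193,8084],[]),
(1,[7885],[]),
(1,[8089,870],[]),
(1,[1690,8090],[]),
(1,[7891],[]),
(1,[8095,4330],[]),
(1,[5888,8096],[]),
(1,[8095,1528],[]),
(1,[860,8100],[]),
(1,[7894],[]),
(1,[8105,6461],[]),
(1,[8105,6628],[]),
(1,[2206,8108],[]),
(1,[7993,7901],[]),
(1,[8113,7994,8112],[]),
(1,[107,8114],[]),
(1,[7908],[]),
(1,[8119,3064],[]),
(1,[8119,3063],[]),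
(1,[5287,8122],[]),
(1,[7913],[]),
(1,[8127,2988],[]),
(1,[4768,8128],[]),
(1,[8127,828],[]),
(1,[480,8132],[]),
(1,[7918],[]),
(1,[8137,3022],[]),
(1,[8137,3021],[]),
(1,[1100,8140],[]),
(1,[7925],[]),
(1,[8145,4793],[]),
(1,[2983,8146],[]),
(1,[8145,8016],[]),
(1,[701,8150],[]),
(1,[7931],[]),
(1,[8155,6372],[]),
(1,[2778,8156],[]),
(1,[7937],[]),
(1,[8161,2785],[]),
(1,[412,8162],[]),
(1,[7943],[]),
(1,[8167,5221],[]),
(1,[693,8168],[]),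
(1,[7949],[]),
(1,[7953],[]),
(1,[8175,3090],[]),
(1,[141,8176],[]),
(1,[7961],[]),
(1,[8181,3449],[]),
(1,[1186,8182],[]),
(1,[7965],[]),
(1,[8187,1535],[]),
(1,[68,8188],[]),
(1,[7971],[]),
(1,[8193,1756],[]),
(1,[318,8194],[]),
(1,[7975],[]),
(1,[8199,254],[]),
(1,[79,8200],[]),
(1,[7981],[]),
(1,[8205,1751],[]),
(1,[338,8206],[]),
(1,[8205,3108],[]),
(1,[389,8210],[]),
(1,[7987],[]),
(1,[8215,6476],[]),
(1,[1609,8216],[]),
(1,[7991,8082],[]),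
(1,[8221,6717],[]),
(1,[193,8222],[]),
(1,[8003],[]),
(1,[8227,3036],[]),
(1,[2216,8228],[]),
(1,[8009],[]),
(1,[8233,6528],[]),
(1,[109,8234],[]),
(1,[8012],[]),
(1,[8239,1810],[]),
(1,[8239,1858],[]),
(1,[729,8242],[]),
(1,[8023],[]),
(1,[8247,5848],[]),
(1,[243,8248],[]),
(1,[8032,8112],[]),
(1,[8253,1015],[]),
(1,[104,8254],[]),
(1,[8253,2833],[]),
(1,[107,8258],[]),
(1,[8253,1016],[]),
(1,[8240,8262],[]),
(1,[8037],[]),
(1,[8267,1249],[]),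
(1,[8026,8268],[]),
(1,[8173,8043],[]),
(1,[8273,136],[]),
(1,[48,8274],[]),
(1,[8046],[]),
(1,[8279,122],[]),
(1,[41,8280],[]),
(1,[8053],[]),
(1,[8285,692],[]),
(1,[193,8286],[]),
(1,[8058],[]),
(1,[8291,1503],[]),
(1,[5254,8292],[]),
(1,[8291,1023],[]),
(1,[548,8296],[]),
(1,[8291,1024],[]),
(1,[8063],[]),
(1,[8303,3325],[]),
(1,[174,8304],[]),
(1,[8068],[]),
(1,[8309,486],[]),
(1,[8309,485],[]),
(1,[8309,7921],[]),
(1,[481,8314],[]),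
(1,[8075],[]),
(1,[8319,5620],[]),
(1,[1486,8320],[]),
(1,[8081],[]),
(1,[8325,4595],[]),
(1,[153,8326],[]),
(1,[8087],[]),
(1,[8331,7681],[]),
(1,[229,8332],[]),
(1,[8331,1738],[]),
(1,[195,8336],[]),
(1,[8092],[]),
(1,[8341,1690],[]),
(1,[8341,1689],[]),
(1,[1035,8344],[]),
(1,[8098],[]),
(1,[8349,5152],[]),
(1,[1926,8350],[]),
(1,[8349,5151],[]),
(1,[3191,8354],[]),
(1,[8103],[]),
(1,[8359,1530],[]),
(1,[6600,8360],[]),
(1,[8111],[]),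
(1,[8365,6621],[]),
(1,[8116],[]),
(1,[8369,108],[]),
(1,[107,8370],[]),
(1,[8369,107],[]),
(1,[8240,8374],[]),
(1,[8124],[]),
(1,[8379,5101],[]),
(1,[4765,8380],[]),
(1,[8379,5287],[]),
(1,[8130],[]),
(1,[8387,4768],[]),
(1,[8387,3202],[]),
(1,[3106,8390],[]),
(1,[8387,5616],[]),
(1,[2991,8394],[]),
(1,[8135],[]),
(1,[8399,751],[]),
(1,[8311,8400],[]),
(1,[8399,698],[]),
(1,[8313,8404],[]),
(1,[8143],[]),
(1,[8409,6443],[]),
(1,[4840,8410],[]),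
(1,[8148],[]),
(1,[8415,2983],[]),
(1,[8415,3103],[]),
(1,[5650,8418],[]),
(1,[8153],[]),
(1,[8423,5214],[]),
(1,[8159],[]),
(1,[8427,6105],[]),
(1,[4153,8428],[]),
(1,[8165],[]),
(1,[8433,7740],[]),
(1,[410,8434],[]),
(1,[8171],[]),
(1,[8439,5219],[]),
(1,[3352,8440],[]),
(1,[8179],[]),
(1,[8445,3092],[]),
(1,[143,8446],[]),
(1,[8185],[]),
(1,[8451,4313],[]),
(1,[1139,8452],[]),
(1,[8191],[]),
(1,[8457,4322],[]),
(1,[1158,8458],[]),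
(1,[8197],[]),
(1,[8203],[]),
(1,[8209],[]),
(1,[8467,1749],[]),
(1,[336,8468],[]),
(1,[8213],[]),
(1,[8473,3110],[]),
(1,[2488,8474],[]),
(1,[8219],[]),
(1,[8479,6478],[]),
(1,[5037,8480],[]),
(1,[8225],[]),
(1,[8485,6481],[]),
(1,[8230],[]),
(1,[8489,1704],[]),
(1,[165,8490],[]),
(1,[8237],[]),
(1,[8495,733],[]),
(1,[111,8496],[])]
theorem ok16 : data.stepsOK st16 4000 = true := by decide +kernel
def st17 : List Step := [(1,[8245],[]),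
(1,[8501,1973],[]),
(1,[3039,8502],[]),
(1,[8251],[]),
(1,[8507,5693],[]),
(1,[7609,8508],[]),
(1,[8257],[]),
(1,[8513,1013],[]),
(1,[7903,8514],[]),
(1,[8261,8368],[]),
(1,[8519,4296],[]),
(1,[8265],[]),
(1,[8523,1018],[]),
(1,[729,8524],[]),
(1,[8270],[]),
(1,[8529,8026],[]),
(1,[8277],[]),
(1,[8533,138],[]),
(1,[153,8534],[]),
(1,[8283],[]),
(1,[8539,181],[]),
(1,[762,8540],[]),
(1,[8289],[]),
(1,[8545,3353],[]),
(1,[8487,8546],[]),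
(1,[8294],[]),
(1,[8551,5626],[]),
(1,[3229,8552],[]),
(1,[8299],[]),
(1,[8557,1021],[]),
(1,[546,8558],[]),
(1,[8307],[]),
(1,[8563,3323],[]),
(1,[172,8564],[]),
(1,[8317],[]),
(1,[8569,8139],[]),
(1,[8388,8570],[]),
(1,[8569,8424],[]),
(1,[480,8574],[]),
(1,[8323],[]),
(1,[8579,5842],[]),
(1,[101,8580],[]),
(1,[8329],[]),
(1,[8585,7283],[]),
(1,[190,8586],[]),
(1,[8335],[]),
(1,[8591,1010],[]),
(1,[1489,8592],[]),
(1,[8339,8464],[]),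
(1,[8597,1740],[]),
(1,[78,8598],[]),
(1,[8347],[]),
(1,[8603,2206],[]),
(1,[290,8604],[]),
(1,[8603,8366],[]),
(1,[1034,8608],[]),
(1,[8353],[]),
(1,[8613,5154],[]),
(1,[5841,8614],[]),
(1,[8357],[]),
(1,[8619,5149],[]),
(1,[8619,6597],[]),
(1,[3204,8622],[]),
(1,[8362],[]),
(1,[8627,6599],[]),
(1,[8373,8368],[]),
(1,[8631,110],[]),
(1,[8521,8632],[]),
(1,[8376],[]),
(1,[8637,8240],[]),
(1,[8521,8638],[]),
(1,[8637,728],[]),
(1,[8382],[]),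
(1,[8645,4765],[]),
(1,[8393],[]),
(1,[8649,5633],[]),
(1,[3104,8650],[]),
(1,[8649,3204],[]),
(1,[5146,8654],[]),
(1,[8397],[]),
(1,[8659,5618],[]),
(1,[2993,8660],[]),
(1,[8402],[]),
(1,[8665,8311],[]),
(1,[8407],[]),
(1,[8669,8417],[]),
(1,[8120,8670],[]),
(1,[8413],[]),
(1,[8675,6441],[]),
(1,[6946,8676],[]),
(1,[8420],[]),
(1,[8681,5650],[]),
(1,[8431],[]),
(1,[8685,6103],[]),
(1,[4147,8686],[]),
(1,[8437],[]),
(1,[8691,4116],[]),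
(1,[3803,8692],[]),
(1,[8443],[]),
(1,[8697,5217],[]),
(1,[3350,8698],[]),
(1,[8449],[]),
(1,[8703,4246],[]),
(1,[1375,8704],[]),
(1,[8703,3094],[]),
(1,[145,8708],[]),
(1,[8455],[]),
(1,[8713,8628],[]),
(1,[67,8714],[]),
(1,[8460,8462],[]),
(1,[8719,1158],[]),
(1,[316,8720],[]),
(1,[8471],[]),
(1,[8725,1747],[]),
(1,[334,8726],[]),
(1,[8477],[]),
(1,[8731,3112],[]),
(1,[349,8732],[]),
(1,[8483,8596],[]),
(1,[8493],[]),
(1,[8739,5996],[]),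
(1,[167,8740],[]),
(1,[8499],[]),
(1,[8745,3316],[]),
(1,[113,8746],[]),
(1,[8745,731],[]),
(1,[8504],[]),
(1,[8753,3039],[]),
(1,[8511],[]),
(1,[8757,513],[]),
(1,[143,8758],[]),
(1,[8517],[]),
(1,[8763,8531],[]),
(1,[864,8764],[]),
(1,[8527],[]),
(1,[8536],[]),
(1,[8771,191],[]),
(1,[141,8772],[]),
(1,[8542],[]),
(1,[8777,187],[]),
(1,[178,8778],[]),
(1,[8549,8736],[]),
(1,[8783,3351],[]),
(1,[78,8784],[]),
(1,[8555],[]),
(1,[8789,5628],[]),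
(1,[3231,8790],[]),
(1,[8789,5662],[]),
(1,[5132,8794],[]),
(1,[8769,8561],[]),
(1,[8799,8755],[]),
(1,[547,8800],[]),
(1,[8799,8643],[]),
(1,[544,8804],[]),
(1,[8799,8751],[]),
(1,[5970,8808],[]),
(1,[8567],[]),
(1,[8813,3321],[]),
(1,[53,8814],[]),
(1,[8572],[]),
(1,[8819,3107],[]),
(1,[1100,8820],[]),
(1,[8819,2990],[]),
(1,[2624,8824],[]),
(1,[8577],[]),
(1,[8583],[]),
(1,[8831,5833],[]),
(1,[8342,8832],[]),
(1,[8589],[]),
(1,[8837,2816],[]),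
(1,[8667,8838],[]),
(1,[8594,8762],[]),
(1,[8843,1490],[]),
(1,[864,8844],[]),
(1,[8601],[]),
(1,[8849,7248],[]),
(1,[148,8850],[]),
(1,[8849,1742],[]),
(1,[76,8854],[]),
(1,[8607],[]),
(1,[8859,8106],[]),
(1,[842,8860],[]),
(1,[8610],[]),
(1,[8865,872],[]),
(1,[8617,8658],[]),
(1,[8869,5156],[]),
(1,[2993,8870],[]),
(1,[8625,8648],[]),
(1,[8875,6595],[]),
(1,[3104,8876],[]),
(1,[8634],[]),
(1,[8881,8640],[]),
(1,[8653],[]),
(1,[8885,5671],[]),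
(1,[821,8886],[]),
(1,[8885,5631],[]),
(1,[818,8890],[]),
(1,[8656],[]),
(1,[8895,5146],[]),
(1,[8663],[]),
(1,[8899,5661],[]),
(1,[6618,8900],[]),
(1,[8673],[]),
(1,[8905,8683],[]),
(1,[8384,8906],[]),
(1,[8678],[]),
(1,[8911,6977],[]),
(1,[8911,6946],[]),
(1,[8689],[]),
(1,[8917,6101],[]),
(1,[3617,8918],[]),
(1,[8695],[]),
(1,[8923,6202],[]),
(1,[3805,8924],[]),
(1,[8923,3886],[]),
(1,[3876,8928],[]),
(1,[8700,8828],[]),
(1,[8707],[]),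
(1,[8935,3813],[]),
(1,[72,8936],[]),
(1,[8711],[]),
(1,[8941,3096],[]),
(1,[343,8942],[]),
(1,[8717],[]),
(1,[8722],[]),
(1,[8949,316],[]),
(1,[8949,315],[]),
(1,[66,8952],[]),
(1,[8729],[]),
(1,[8957,1745],[]),
(1,[332,8958],[]),
(1,[8735],[]),
(1,[8963,3114],[]),
(1,[351,8964],[]),
(1,[8743],[]),
(1,[8969,5998],[]),
(1,[169,8970],[]),
(1,[8749],[]),
(1,[8975,3318],[]),
(1,[2062,8976],[]),
(1,[8761],[]),
(1,[8981,2568],[]),
(1,[1375,8982],[]),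
(1,[8981,511],[]),
(1,[145,8986],[]),
(1,[8767],[]),
(1,[8991,1247],[]),
(1,[8775],[]),
(1,[8995,8666],[]),
(1,[143,8996],[])]
theorem ok17 : data.stepsOK st17 4250 = true := by decide +kernel
def st18 : List Step := [(1,[8781],[]),
(1,[9001,309],[]),
(1,[8300,9002],[]),
(1,[8933,8787],[]),
(1,[9007,8312],[]),
(1,[148,9008],[]),
(1,[8793],[]),
(1,[8797],[]),
(1,[9015,5664],[]),
(1,[5130,9016],[]),
(1,[8803],[]),
(1,[9021,1971],[]),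
(1,[549,9022],[]),
(1,[8806],[]),
(1,[9027,543],[]),
(1,[8810,8882],[]),
(1,[9031,5970],[]),
(1,[9029,9032],[]),
(1,[8817],[]),
(1,[8823],[]),
(1,[9039,3105],[]),
(1,[4840,9040],[]),
(1,[9039,8897],[]),
(1,[1098,9044],[]),
(1,[8827],[]),
(1,[9049,2992],[]),
(1,[1075,9050],[]),
(1,[8835,8864],[]),
(1,[9055,1450],[]),
(1,[8867,9056],[]),
(1,[8841,9006],[]),
(1,[9061,2818],[]),
(1,[148,9062],[]),
(1,[8847],[]),
(1,[9067,3117],[]),
(1,[8993,9068],[]),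
(1,[8853],[]),
(1,[8857],[]),
(1,[8863],[]),
(1,[9077,8992],[]),
(1,[61,9078],[]),
(1,[8873],[]),
(1,[9083,5158],[]),
(1,[6618,9084],[]),
(1,[9083,6708],[]),
(1,[2995,9088],[]),
(1,[8878,8946],[]),
(1,[9093,820],[]),
(1,[69,9094],[]),
(1,[8889],[]),
(1,[9099,5669],[]),
(1,[8620,9100],[]),
(1,[9013,8893],[]),
(1,[9105,4896],[]),
(1,[2469,9106],[]),
(1,[8902],[]),
(1,[9111,6618],[]),
(1,[8909],[]),
(1,[9115,3101],[]),
(1,[3060,9116],[]),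
(1,[8921],[]),
(1,[9121,5359],[]),
(1,[981,9122],[]),
(1,[8927],[]),
(1,[9127,6141],[]),
(1,[5299,9128],[]),
(1,[9127,6212],[]),
(1,[3807,9132],[]),
(1,[8930,9072],[]),
(1,[9137,3876],[]),
(1,[146,9138],[]),
(1,[8939],[]),
(1,[9143,3811],[]),
(1,[1227,9144],[]),
(1,[8945],[]),
(1,[9149,3098],[]),
(1,[1405,9150],[]),
(1,[8955],[]),
(1,[9155,313],[]),
(1,[64,9156],[]),
(1,[9155,888],[]),
(1,[1138,9160],[]),
(1,[8960,9074],[]),
(1,[9165,332],[]),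
(1,[320,9166],[]),
(1,[8967],[]),
(1,[8973],[]),
(1,[9173,5978],[]),
(1,[311,9174],[]),
(1,[8978,9036],[]),
(1,[8985],[]),
(1,[9181,603],[]),
(1,[72,9182],[]),
(1,[8989],[]),
(1,[9187,509],[]),
(1,[147,9188],[]),
(1,[8998,9006],[]),
(1,[9193,1374],[]),
(1,[148,9194],[]),
(1,[9004,9178],[]),
(1,[9199,549],[]),
(1,[55,9200],[]),
(1,[9011],[]),
(1,[9205,8121],[]),
(1,[340,9206],[]),
(1,[9019],[]),
(1,[9211,5666],[]),
(1,[5128,9212],[]),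
(1,[9025,9198],[]),
(1,[9217,2170],[]),
(1,[170,9218],[]),
(1,[9035],[]),
(1,[9223,546],[]),
(1,[5937,9224],[]),
(1,[9042,9092],[]),
(1,[9229,8915],[]),
(1,[69,9230],[]),
(1,[9047],[]),
(1,[9235,8620],[]),
(1,[1068,9236],[]),
(1,[9053],[]),
(1,[9241,9113],[]),
(1,[1077,9242],[]),
(1,[9241,2994],[]),
(1,[4849,9246],[]),
(1,[9059],[]),
(1,[9251,1452],[]),
(1,[65,9252],[]),
(1,[9065],[]),
(1,[9257,4972],[]),
(1,[340,9258],[]),
(1,[9070,9170],[]),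
(1,[9263,9081],[]),
(1,[9265,351],[]),
(1,[996,9266],[]),
(1,[9111,9086],[]),
(1,[9091],[]),
(1,[9273,6715],[]),
(1,[9097],[]),
(1,[9277,822],[]),
(1,[71,9278],[]),
(1,[9103,9234],[]),
(1,[9109],[]),
(1,[9285,4005],[]),
(1,[8647,9286],[]),
(1,[9119],[]),
(1,[9125],[]),
(1,[9293,5357],[]),
(1,[983,9294],[]),
(1,[9131],[]),
(1,[9299,6139],[]),
(1,[9135],[]),
(1,[9303,6137],[]),
(1,[9141],[]),
(1,[9307,3804],[]),
(1,[343,9308],[]),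
(1,[9147],[]),
(1,[9313,3809],[]),
(1,[1300,9314],[]),
(1,[9291,9153],[]),
(1,[9319,3060],[]),
(1,[2943,9320],[]),
(1,[9159],[]),
(1,[9325,311],[]),
(1,[9162],[]),
(1,[9329,1138],[]),
(1,[9169],[]),
(1,[9333,334],[]),
(1,[401,9334],[]),
(1,[9177,9324],[]),
(1,[9339,5980],[]),
(1,[65,9340],[]),
(1,[9185],[]),
(1,[9345,601],[]),
(1,[70,9346],[]),
(1,[9191],[]),
(1,[9351,5391],[]),
(1,[340,9352],[]),
(1,[9196],[]),
(1,[9357,148],[]),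
(1,[9203],[]),
(1,[9209],[]),
(1,[9363,8385],[]),
(1,[338,9364],[]),
(1,[9214,9282],[]),
(1,[9369,6928],[]),
(1,[1068,9370],[]),
(1,[9221],[]),
(1,[9375,1093],[]),
(1,[9326,9376],[]),
(1,[9226,9360],[]),
(1,[9381,5967],[]),
(1,[57,9382],[]),
(1,[9233],[]),
(1,[9387,8912],[]),
(1,[71,9388],[]),
(1,[9238,9276],[]),
(1,[9271,9245],[]),
(1,[9395,5907],[]),
(1,[1079,9396],[]),
(1,[9248],[]),
(1,[9255],[]),
(1,[9403,1454],[]),
(1,[9330,9404],[]),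
(1,[9401,9261],[]),
(1,[9409,9274],[]),
(1,[389,9410],[]),
(1,[9268],[]),
(1,[9415,996],[]),
(1,[9363,9281],[]),
(1,[9419,388],[]),
(1,[70,9420],[]),
(1,[9289],[]),
(1,[9425,7008],[]),
(1,[9296],[]),
(1,[9429,984],[]),
(1,[595,9430],[]),
(1,[9429,6768],[]),
(1,[592,9434],[]),
(1,[9311],[]),
(1,[9439,5298],[]),
(1,[345,9440],[]),
(1,[9317],[]),
(1,[9445,9304],[]),
(1,[1298,9446],[]),
(1,[9323],[]),
(1,[9451,9426],[]),
(1,[2945,9452],[]),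
(1,[9336],[]),
(1,[9457,401],[]),
(1,[9343],[]),
(1,[9461,5982],[]),
(1,[9330,9462],[]),
(1,[9349],[]),
(1,[9467,599],[]),
(1,[68,9468],[]),
(1,[9355,9418],[]),
(1,[9473,5729],[]),
(1,[70,9474],[]),
(1,[9451,9367],[]),
(1,[9479,2944],[]),
(1,[9373,9392],[]),
(1,[9483,6930],[]),
(1,[68,9484],[]),
(1,[9379],[]),
(1,[9489,1091],[]),
(1,[62,9490],[]),
(1,[9385],[]),
(1,[9495,5965],[]),
(1,[59,9496],[])]
theorem ok18 : data.stepsOK st18 4500 = true := by decide +kernel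
def st19 : List Step := [(1,[9391],[]),
(1,[9399],[]),
(1,[9503,4065],[]),
(1,[1081,9504],[]),
(1,[9407],[]),
(1,[9509,1322],[]),
(1,[9413],[]),
(1,[9513,4062],[]),
(1,[9423],[]),
(1,[9517,2489],[]),
(1,[9517,9514],[]),
(1,[68,9520],[]),
(1,[9433],[]),
(1,[9525,6767],[]),
(1,[597,9526],[]),
(1,[9437],[]),
(1,[9531,6770],[]),
(1,[6098,9532],[]),
(1,[9443],[]),
(1,[9537,9300],[]),
(1,[347,9538],[]),
(1,[9449],[]),
(1,[9543,6096],[]),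
(1,[1296,9544],[]),
(1,[9454,9500],[]),
(1,[9549,9481],[]),
(1,[9465],[]),
(1,[9553,5984],[]),
(1,[891,9554],[]),
(1,[9471],[]),
(1,[9477],[]),
(1,[9561,5727],[]),
(1,[9519,9562],[]),
(1,[9487],[]),
(1,[9567,6932],[]),
(1,[8951,9568],[]),
(1,[9493],[]),
(1,[9573,1089],[]),
(1,[9416,9574],[]),
(1,[9499],[]),
(1,[9579,5995],[]),
(1,[61,9580],[]),
(1,[9507],[]),
(1,[9585,9523],[]),
(1,[9587,1082],[]),
(1,[8951,9588],[]),
(1,[9529,9558],[]),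
(1,[9593,6786],[]),
(1,[69,9594],[]),
(1,[9535],[]),
(1,[9599,6772],[]),
(1,[9541],[]),
(1,[9603,6134],[]),
(1,[349,9604],[]),
(1,[9547],[]),
(1,[9609,9600],[]),
(1,[9557],[]),
(1,[9613,5986],[]),
(1,[893,9614],[]),
(1,[9565],[]),
(1,[9619,5725],[]),
(1,[349,9620],[]),
(1,[9571],[]),
(1,[9625,5614],[]),
(1,[9577],[]),
(1,[9629,1087],[]),
(1,[348,9630],[]),
(1,[9583],[]),
(1,[9635,5993],[]),
(1,[9416,9636],[]),
(1,[9591],[]),
(1,[9641,1084],[]),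
(1,[9627,9642],[]),
(1,[9597],[]),
(1,[9647,6788],[]),
(1,[9519,9648],[]),
(1,[9609,9607],[]),
(1,[9653,9610],[]),
(1,[9617],[]),
(1,[9657,5988],[]),
(1,[895,9658],[]),
(1,[9623],[]),
(1,[9663,5955],[]),
(1,[9655,9664],[]),
(1,[9633],[]),
(1,[9639],[]),
(1,[9671,5991],[]),
(1,[9655,9672],[]),
(1,[9644,9668],[]),
(1,[9677,9627],[]),
(1,[9651],[]),
(1,[9681,6790],[]),
(1,[349,9682],[]),
(1,[9681,6831],[]),
(1,[9679,9686],[]),
(1,[9661],[]),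
(1,[9666],[]),
(1,[9693,9655],[]),
(1,[9693,9674,9690],[]),
(1,[9697,9694],[]),
(1,[9685],[]),
(1,[9701,6792],[]),
(1,[9698,9702],[]),
(1,[9689],[]),
(1,[9707,6829],[]),
(1,[319,9708],[]),
(1,[9705],[]),
(1,[9713,6794],[]),
(1,[9711],[]),
(1,[9717,7047],[]),
(1,[9458,9718],[]),
(1,[9721],[]),
(1,[9723,9715],[])]
theorem ok19 : data.stepsOK st19 4750 = true := by decide +kernel
end

end MemV
end HN
end H23
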